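import Groth.Agent.NT93.Graph

namespace Groth.Agent.NT93

open Finset

variable {n : ℕ} {T : Models.NumericalType n}

/-- The list of shapes of types all of whose indices are `(-2)`-indices. -/
def Classified (T : Models.NumericalType n) : Prop :=
  IsType T (eA n) one one ∨ IsType T (eBC n) (xBC n) (wBC n) ∨ IsType T eC1 one (wC1 n) ∨
  IsType T (eC2 n) (xC2 n) (wC2 n) ∨
  (4 ≤ n ∧ IsType T (eB1 n) (xB1 n) wB1) ∨ (4 ≤ n ∧ IsType T (eB2 n) (xB2 n) wB2) ∨
  (5 ≤ n ∧ IsType T (eD n) (xD n) one) ∨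
  (n = 3 ∧ IsType T eG1 xG1 wG1) ∨ (n = 3 ∧ IsType T eG2 xG2 wG2) ∨
  (n = 5 ∧ IsType T eF1 xF1 wF1) ∨ (n = 5 ∧ IsType T eF2 xF2 wF2) ∨
  (n = 7 ∧ IsType T (eE e6E) x6 one) ∨ (n = 8 ∧ IsType T (eE e7E) x7 one) ∨
  (n = 9 ∧ IsType T (eE e8E) x8 one)

theorem Classified.ofA (h : IsType T (eA n) one one) : Classified T := Or.inl h

theorem Classified.ofC (h : IsType T (eBC n) (xBC n) (wBC n) ∨ IsType T eC1 one (wC1 n) ∨
    IsType T (eC2 n) (xC2 n) (wC2 n)) : Classified T :=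
  Or.inr (h.elim Or.inl fun h => Or.inr (h.elim Or.inl fun h => Or.inr (Or.inl h)))

theorem Classified.ofB (hn : 4 ≤ n)
    (h : IsType T (eB1 n) (xB1 n) wB1 ∨ IsType T (eB2 n) (xB2 n) wB2) : Classified T :=
  Or.inr (Or.inr (Or.inr (Or.inr
    (h.elim (fun h => Or.inl ⟨hn, h⟩) fun h => Or.inr (Or.inl ⟨hn, h⟩)))))

theorem Classified.ofD (hn : 5 ≤ n) (h : IsType T (eD n) (xD n) one) : Classified T :=
  Or.inr (Or.inr (Or.inr (Or.inr (Or.inr (Or.inr (Or.inl ⟨hn, h⟩))))))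

theorem Classified.ofG (h : 3 = n ∧ (IsType T eG1 xG1 wG1 ∨ IsType T eG2 xG2 wG2)) :
    Classified T :=
  Or.inr (Or.inr (Or.inr (Or.inr (Or.inr (Or.inr (Or.inr
    (h.2.elim (fun g => Or.inl ⟨h.1.symm, g⟩) fun g => Or.inr (Or.inl ⟨h.1.symm, g⟩))))))))

theorem Classified.ofF (h : 5 = n ∧ (IsType T eF1 xF1 wF1 ∨ IsType T eF2 xF2 wF2)) :
    Classified T :=
  Or.inr (Or.inr (Or.inr (Or.inr (Or.inr (Or.inr (Or.inr (Or.inr (Or.inr
    (h.2.elim (fun g => Or.inl ⟨h.1.symm, g⟩) fun g => Or.inr (Or.inl ⟨h.1.symm, g⟩))))))))))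

theorem Classified.ofE6 (h : 7 = n ∧ IsType T (eE e6E) x6 one) : Classified T :=
  Or.inr (Or.inr (Or.inr (Or.inr (Or.inr (Or.inr (Or.inr (Or.inr (Or.inr (Or.inr (Or.inr
    (Or.inl ⟨h.1.symm, h.2⟩)))))))))))

theorem Classified.ofE7 (h : 8 = n ∧ IsType T (eE e7E) x7 one) : Classified T :=
  Or.inr (Or.inr (Or.inr (Or.inr (Or.inr (Or.inr (Or.inr (Or.inr (Or.inr (Or.inr (Or.inr
    (Or.inr (Or.inl ⟨h.1.symm, h.2⟩))))))))))))

theorem Classified.ofE8 (h : 9 = n ∧ IsType T (eE e8E) x8 one) : Classified T :=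
  Or.inr (Or.inr (Or.inr (Or.inr (Or.inr (Or.inr (Or.inr (Or.inr (Or.inr (Or.inr (Or.inr
    (Or.inr (Or.inr ⟨h.1.symm, h.2⟩))))))))))))

theorem row_eq {i : Fin n} (two : Two T i) (s : Finset (Fin n)) (hi : i ∉ s)
    (h0 : ∀ l, l ≠ i → l ∉ s → T.a i l = 0) :
    ∑ l ∈ s, T.a i l * T.m l = 2 * T.w i * T.m i := by
  classical
  have h := rowM T i
  rw [← sum_subset (s₁ := insert i s) (subset_univ _)
    (fun l _ hl => by rw [h0 l (fun e => hl (by simp [e])) (fun e => hl (by simp [e])), zero_mul]),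
    sum_insert hi, two] at h
  linarith

/-- The graph is not a finite chain with at most one double edge at its right end. -/
theorem chain_false {v : ℕ → Fin n} (hn : 3 ≤ n) (h : Path T n v) (two : ∀ i, Two T i)
    (nc : ∀ i l, i + 2 ≤ l → l < n → T.a (v i) (v l) = 0)
    (hs : ∀ e, e + 2 < n → T.a (v e) (v (e + 1)) = T.w (v e) ∧
      T.a (v e) (v (e + 1)) = T.w (v (e + 1)))
    (hl : ∀ e, e + 2 = n → T.a (v e) (v (e + 1)) = T.w (v e) ∧
        T.a (v e) (v (e + 1)) = T.w (v (e + 1)) ∨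
      T.a (v e) (v (e + 1)) = T.w (v e) ∧ T.a (v e) (v (e + 1)) = 2 * T.w (v (e + 1)) ∨
      T.a (v e) (v (e + 1)) = 2 * T.w (v e) ∧ T.a (v e) (v (e + 1)) = T.w (v (e + 1))) : False := by
  classical
  have r0 : T.a (v 0) (v 1) * T.m (v 1) = 2 * T.w (v 0) * T.m (v 0) := by
    have := row_eq (two (v 0)) {v 1}
      (by simpa using h.inj.ne (by omega) (by omega) (show (0 : ℕ) ≠ 1 by omega)) ?_
    · simpa using this
    · intro l hl0 hl1
      obtain ⟨p, hp, rfl⟩ := h.inj.surj rfl l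
      have : p ≠ 0 := fun e => hl0 (by rw [e])
      have : p ≠ 1 := fun e => hl1 (by simp [e])
      exact nc 0 p (by omega) hp
  have rmid : ∀ p, p + 2 < n → T.a (v (p + 1)) (v p) * T.m (v p) +
      T.a (v (p + 1)) (v (p + 2)) * T.m (v (p + 2)) = 2 * T.w (v (p + 1)) * T.m (v (p + 1)) := by
    intro p hp
    have := row_eq (two (v (p + 1))) {v p, v (p + 2)} ?_ ?_
    · rwa [sum_pair (h.inj.ne (by omega) (by omega) (by omega))] at this
    · simp only [mem_insert, mem_singleton, not_or]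
      exact ⟨h.inj.ne (by omega) (by omega) (by omega), h.inj.ne (by omega) (by omega) (by omega)⟩
    · intro l hl0 hl1
      obtain ⟨q, hq, rfl⟩ := h.inj.surj rfl l
      have : q ≠ p + 1 := fun e => hl0 (by rw [e])
      have : q ≠ p := fun e => hl1 (by simp [e])
      have : q ≠ p + 2 := fun e => hl1 (by simp [e])
      rcases (show q + 2 ≤ p + 1 ∨ p + 1 + 2 ≤ q by omega) with h' | h'
      · rw [aSymm T]; exact nc q (p + 1) h' (by omega)
      · exact nc (p + 1) q h' hq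
  have rlast : T.a (v (n - 1)) (v (n - 2)) * T.m (v (n - 2)) =
      2 * T.w (v (n - 1)) * T.m (v (n - 1)) := by
    have := row_eq (two (v (n - 1))) {v (n - 2)}
      (by simpa using h.inj.ne (by omega) (by omega) (show n - 1 ≠ n - 2 by omega)) ?_
    · simpa using this
    · intro l hl0 hl1
      obtain ⟨q, hq, rfl⟩ := h.inj.surj rfl l
      have : q ≠ n - 1 := fun e => hl0 (by rw [e])
      have : q ≠ n - 2 := fun e => hl1 (by simp [e])
      rw [aSymm T]; exact nc q (n - 1) (by omega) (by omega)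
  have hm : ∀ p : ℕ, p + 2 ≤ n → T.m (v p) = (p + 1 : ℤ) * T.m (v 0) := by
    intro p
    induction p using Nat.strong_induction_on with
    | _ p ih =>
      intro hp
      match p with
      | 0 => simp
      | 1 =>
        obtain ⟨e1, e2⟩ := hs 0 (by omega)
        rw [e1] at r0
        have := mul_left_cancel₀ (ne_of_gt (T.w_pos (v 0))) (show T.w (v 0) * T.m (v 1) =
          T.w (v 0) * (2 * T.m (v 0)) by linarith)
        push_cast; linarith
      | p + 2 =>
        have e := rmid p (by omega)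
        obtain ⟨e1, e2⟩ := hs (p + 1) (by omega)
        obtain ⟨f1, f2⟩ := hs p (by omega)
        rw [aSymm T, f2, show p + 2 = p + 1 + 1 from rfl, e1] at e
        have := mul_left_cancel₀ (ne_of_gt (T.w_pos (v (p + 1))))
          (show T.w (v (p + 1)) * T.m (v (p + 1 + 1)) =
            T.w (v (p + 1)) * (2 * T.m (v (p + 1)) - T.m (v p)) by linarith)
        rw [show p + 2 = p + 1 + 1 from rfl, this, ih (p + 1) (by omega) (by omega),
          ih p (by omega) (by omega)]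
        push_cast; ring
  have e := rmid (n - 3) (by omega)
  obtain ⟨f1, f2⟩ := hs (n - 3) (by omega)
  rw [show n - 3 + 1 = n - 2 by omega] at f1 f2 e
  rw [show n - 3 + 2 = n - 1 by omega, aSymm T, f2, hm (n - 2) (by omega),
    hm (n - 3) (by omega)] at e
  rw [aSymm T, hm (n - 2) (by omega)] at rlast
  obtain ⟨N, rfl⟩ : ∃ N, n = N + 3 := ⟨n - 3, by omega⟩
  simp only [show N + 3 - 1 = N + 2 from rfl, show N + 3 - 2 = N + 1 from rfl,
    show N + 3 - 3 = N from rfl] at *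
  push_cast at e rlast
  have hpos := T.m_pos (v 0)
  have hw := T.w_pos (v (N + 1))
  have hw' := T.w_pos (v (N + 2))
  have hwm := mul_pos hw hpos
  have hwm' := mul_pos hw' hpos
  have hw2 : (2 : ℤ) * T.w (v (N + 2)) ≠ 0 := by linarith
  rcases hl (N + 1) rfl with ⟨g1, g2⟩ | ⟨g1, g2⟩ | ⟨g1, g2⟩ <;>
    rw [show N + 1 + 1 = N + 2 from rfl] at g1 g2 <;> rw [g1] at e <;> rw [g2] at rlast
  · have eM := mul_left_cancel₀ (ne_of_gt hw) (show T.w (v (N + 1)) * T.m (v (N + 2)) =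
      T.w (v (N + 1)) * (((N : ℤ) + 3) * T.m (v 0)) by linear_combination e)
    have eL := mul_left_cancel₀ (ne_of_gt hw') (show T.w (v (N + 2)) * (2 * T.m (v (N + 2))) =
      T.w (v (N + 2)) * (((N : ℤ) + 2) * T.m (v 0)) by linear_combination (-1 : ℤ) * rlast)
    nlinarith
  · have eM := mul_left_cancel₀ (ne_of_gt hw) (show T.w (v (N + 1)) * T.m (v (N + 2)) =
      T.w (v (N + 1)) * (((N : ℤ) + 3) * T.m (v 0)) by linear_combination e)
    have eL := mul_left_cancel₀ hw2 (show 2 * T.w (v (N + 2)) * T.m (v (N + 2)) =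
      2 * T.w (v (N + 2)) * (((N : ℤ) + 2) * T.m (v 0)) by linear_combination (-1 : ℤ) * rlast)
    linarith
  · have eM := mul_left_cancel₀ (ne_of_gt hw) (show T.w (v (N + 1)) * (2 * T.m (v (N + 2))) =
      T.w (v (N + 1)) * (((N : ℤ) + 3) * T.m (v 0)) by linear_combination e)
    have eL := mul_left_cancel₀ (ne_of_gt hw') (show T.w (v (N + 2)) * (2 * T.m (v (N + 2))) =
      T.w (v (N + 2)) * (((N : ℤ) + 2) * T.m (v 0)) by linear_combination (-1 : ℤ) * rlast)
    linarith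

end Groth.Agent.NT93
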