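import Groth.Agent.NT93.Configs

namespace Groth.Agent.NT93

open Finset

variable {n : ℕ} {T : Models.NumericalType n}

theorem cfgPair {v : ℕ → Fin n} (inj : Inj 2 v) (two : ∀ p < 2, Two T (v p))
    (h : (2 * T.w (v 0) ≤ T.a (v 0) (v 1) ∧ 2 * T.w (v 1) ≤ T.a (v 0) (v 1)) ∨
      4 * T.w (v 0) ≤ T.a (v 0) (v 1) ∨ 4 * T.w (v 1) ≤ T.a (v 0) (v 1))
    (hne : T.a (v 0) (v 1) ≠ 0) :
    2 = n := by
  have e1 := w_le_of_ne T (inj.ne (by omega) (by omega) (show (0 : ℕ) ≠ 1 by omega)) hne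
  have e2 := w_le_of_ne' T (inj.ne (by omega) (by omega) (show (0 : ℕ) ≠ 1 by omega)) hne
  have hS0 : nb 2 cE 0 = {1} := by ext q; simp [mem_nb]; omega
  have hS1 : nb 2 cE 1 = {0} := by ext q; simp [mem_nb]; omega
  have go : ∀ x : ℕ → ℤ, 0 < x 0 → 0 < x 1 →
      2 * T.w (v 0) * x 0 ≤ T.a (v 0) (v 1) * x 1 →
      2 * T.w (v 1) * x 1 ≤ T.a (v 0) (v 1) * x 0 → 2 = n := fun x h0 h1 r0 r1 =>
    (affine (x := x) (S := nb 2 cE) (by omega) inj two
      (fun p hp => by interval_cases p <;> assumption)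
      (fun p hp q hq => by simp only [mem_nb] at hq; omega)
      (fun p hp => by
        interval_cases p
        · rw [hS0, sum_singleton]; exact r0
        · rw [hS1, sum_singleton, aSymm T]; exact r1)).card
  rcases h with ⟨h1, h2⟩ | h | h
  · exact go (fun _ => 1) (by simp) (by simp) (by linarith) (by linarith)
  · exact go (fun p => if p = 0 then 2 else 1) (by simp) (by simp) (by simp; linarith)
      (by simp; linarith)
  · exact go (fun p => if p = 0 then 1 else 2) (by simp) (by simp) (by simp; linarith)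
      (by simp; linarith)

def xG1 (p : ℕ) : ℤ := [1, 2, 1].getD p 1
def wG1 (p : ℕ) : ℤ := [1, 1, 3].getD p 1
def eG1 (p q : ℕ) : ℤ := if q = p + 1 then (if p = 0 then 1 else 3) else 0
def xG2 (p : ℕ) : ℤ := [1, 2, 3].getD p 1
def wG2 (p : ℕ) : ℤ := [3, 3, 1].getD p 1
def eG2 (p q : ℕ) : ℤ := if q = p + 1 then 3 else 0
def xF1 (p : ℕ) : ℤ := [1, 2, 3, 2, 1].getD p 1
def wF1 (p : ℕ) : ℤ := [1, 1, 1, 2, 2].getD p 1
def eF1 (p q : ℕ) : ℤ := if q = p + 1 then (if p ≤ 1 then 1 else 2) else 0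
def xF2 (p : ℕ) : ℤ := [1, 2, 3, 4, 2].getD p 1
def wF2 (p : ℕ) : ℤ := [2, 2, 2, 1, 1].getD p 1
def eF2 (p q : ℕ) : ℤ := if q = p + 1 then (if p ≤ 2 then 2 else 1) else 0

theorem cfgG {v : ℕ → Fin n} (h : Path T 3 v) (two : ∀ p < 3, Two T (v p))
    (h3 : 3 * T.w (v 1) ≤ T.a (v 1) (v 2) ∨ 3 * T.w (v 2) ≤ T.a (v 1) (v 2)) :
    3 = n ∧ (IsType T eG1 xG1 wG1 ∨ IsType T eG2 xG2 wG2) := by
  have a0 : T.w (v 0) ≤ T.a (v 0) (v 1) := h.le_fwd (p := 0) (by omega)
  have b0 : T.w (v 1) ≤ T.a (v 0) (v 1) := h.le_bwd (p := 0) (by omega)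
  have a1 : T.w (v 1) ≤ T.a (v 1) (v 2) := h.le_fwd (p := 1) (by omega)
  have b1 : T.w (v 2) ≤ T.a (v 1) (v 2) := h.le_bwd (p := 1) (by omega)
  have hS0 : nb 3 cE 0 = {1} := by ext q; simp [mem_nb]; omega
  have hS1 : nb 3 cE 1 = {0, 2} := by ext q; simp [mem_nb]; omega
  have hS2 : nb 3 cE 2 = {1} := by ext q; simp [mem_nb]; omega
  have s10 := aSymm T (v 0) (v 1)
  have s21 := aSymm T (v 1) (v 2)
  have hnon : ∀ p q : ℕ, q < 3 → q ∉ nb 3 cE p → q ≠ p + 1 := fun p q h1 h2 => by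
    simp only [mem_nb] at h2; omega
  have hed : ∀ p q : ℕ, p < q → q ∈ nb 3 cE p → q = p + 1 := fun p q h1 h2 => by
    simp only [mem_nb] at h2; omega
  by_cases hc : 3 * T.w (v 1) ≤ T.a (v 1) (v 2)
  · have A : Aff T 3 v xG1 (nb 3 cE) := affine (by omega) h.inj two
      (fun p hp => by interval_cases p <;> simp [xG1])
      (fun p hp q hq => by simp only [mem_nb] at hq; omega)
      (fun p hp => by interval_cases p <;> simp [hS0, hS1, hS2, xG1, s10, s21] <;> linarith)
    have r0 := A.row 0 (by omega)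
    have r1 := A.row 1 (by omega)
    have r2 := A.row 2 (by omega)
    simp [hS0, hS1, hS2, xG1, s10, s21] at r0 r1 r2
    refine ⟨A.card, Or.inl (A.isType (T.m (v 0)) (T.w (v 0))
      (fun p hp => A.m_eq (r := 0) (by omega) (by simp [xG1]) p hp)
      (fun p hp => by interval_cases p <;> simp [wG1] <;> linarith)
      (fun p q hpq hq hm => by
        obtain rfl := hed p q hpq hm
        have : p < 2 := by omega
        interval_cases p <;> simp [eG1] <;> linarith)
      fun p q hpq hq hm => by simp [eG1, hnon p q hq hm])⟩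
  · have hc' := h3.resolve_left hc
    have A : Aff T 3 v xG2 (nb 3 cE) := affine (by omega) h.inj two
      (fun p hp => by interval_cases p <;> simp [xG2])
      (fun p hp q hq => by simp only [mem_nb] at hq; omega)
      (fun p hp => by interval_cases p <;> simp [hS0, hS1, hS2, xG2, s10, s21] <;> linarith)
    have r0 := A.row 0 (by omega)
    have r1 := A.row 1 (by omega)
    have r2 := A.row 2 (by omega)
    simp [hS0, hS1, hS2, xG2, s10, s21] at r0 r1 r2
    refine ⟨A.card, Or.inr (A.isType (T.m (v 0)) (T.w (v 2))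
      (fun p hp => A.m_eq (r := 0) (by omega) (by simp [xG2]) p hp)
      (fun p hp => by interval_cases p <;> simp [wG2] <;> linarith)
      (fun p q hpq hq hm => by
        obtain rfl := hed p q hpq hm
        have : p < 2 := by omega
        interval_cases p <;> simp [eG2] <;> linarith)
      fun p q hpq hq hm => by simp [eG2, hnon p q hq hm])⟩

theorem cfgF {v : ℕ → Fin n} (h : Path T 5 v) (two : ∀ p < 5, Two T (v p))
    (h2 : Multi T (v 2) (v 3)) :
    5 = n ∧ (IsType T eF1 xF1 wF1 ∨ IsType T eF2 xF2 wF2) := by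
  have a0 : T.w (v 0) ≤ T.a (v 0) (v 1) := h.le_fwd (p := 0) (by omega)
  have b0 : T.w (v 1) ≤ T.a (v 0) (v 1) := h.le_bwd (p := 0) (by omega)
  have a1 : T.w (v 1) ≤ T.a (v 1) (v 2) := h.le_fwd (p := 1) (by omega)
  have b1 : T.w (v 2) ≤ T.a (v 1) (v 2) := h.le_bwd (p := 1) (by omega)
  have a2 : T.w (v 2) ≤ T.a (v 2) (v 3) := h.le_fwd (p := 2) (by omega)
  have b2 : T.w (v 3) ≤ T.a (v 2) (v 3) := h.le_bwd (p := 2) (by omega)
  have a3 : T.w (v 3) ≤ T.a (v 3) (v 4) := h.le_fwd (p := 3) (by omega)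
  have b3 : T.w (v 4) ≤ T.a (v 3) (v 4) := h.le_bwd (p := 3) (by omega)
  have hS0 : nb 5 cE 0 = {1} := by ext q; simp [mem_nb]; omega
  have hS1 : nb 5 cE 1 = {0, 2} := by ext q; simp [mem_nb]; omega
  have hS2 : nb 5 cE 2 = {1, 3} := by ext q; simp [mem_nb]; omega
  have hS3 : nb 5 cE 3 = {2, 4} := by ext q; simp [mem_nb]; omega
  have hS4 : nb 5 cE 4 = {3} := by ext q; simp [mem_nb]; omega
  have s10 := aSymm T (v 0) (v 1)
  have s21 := aSymm T (v 1) (v 2)
  have s32 := aSymm T (v 2) (v 3)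
  have s43 := aSymm T (v 3) (v 4)
  have hnon : ∀ p q : ℕ, q < 5 → q ∉ nb 5 cE p → q ≠ p + 1 := fun p q h1 h2 => by
    simp only [mem_nb] at h2; omega
  have hed : ∀ p q : ℕ, p < q → q ∈ nb 5 cE p → q = p + 1 := fun p q h1 h2 => by
    simp only [mem_nb] at h2; omega
  by_cases hc : 2 * T.w (v 2) ≤ T.a (v 2) (v 3)
  · have A : Aff T 5 v xF1 (nb 5 cE) := affine (by omega) h.inj two
      (fun p hp => by interval_cases p <;> simp [xF1])
      (fun p hp q hq => by simp only [mem_nb] at hq; omega)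
      (fun p hp => by
        interval_cases p <;> simp [hS0, hS1, hS2, hS3, hS4, xF1, s10, s21, s32, s43] <;> linarith)
    have r0 := A.row 0 (by omega)
    have r1 := A.row 1 (by omega)
    have r2 := A.row 2 (by omega)
    have r3 := A.row 3 (by omega)
    have r4 := A.row 4 (by omega)
    simp [hS0, hS1, hS2, hS3, hS4, xF1, s10, s21, s32, s43] at r0 r1 r2 r3 r4
    refine ⟨A.card, Or.inl (A.isType (T.m (v 0)) (T.w (v 0))
      (fun p hp => A.m_eq (r := 0) (by omega) (by simp [xF1]) p hp)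
      (fun p hp => by interval_cases p <;> simp [wF1] <;> linarith)
      (fun p q hpq hq hm => by
        obtain rfl := hed p q hpq hm
        have : p < 4 := by omega
        interval_cases p <;> simp [eF1] <;> linarith)
      fun p q hpq hq hm => by simp [eF1, hnon p q hq hm])⟩
  · have hc' := h2.resolve_left hc
    have A : Aff T 5 v xF2 (nb 5 cE) := affine (by omega) h.inj two
      (fun p hp => by interval_cases p <;> simp [xF2])
      (fun p hp q hq => by simp only [mem_nb] at hq; omega)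
      (fun p hp => by
        interval_cases p <;> simp [hS0, hS1, hS2, hS3, hS4, xF2, s10, s21, s32, s43] <;> linarith)
    have r0 := A.row 0 (by omega)
    have r1 := A.row 1 (by omega)
    have r2 := A.row 2 (by omega)
    have r3 := A.row 3 (by omega)
    have r4 := A.row 4 (by omega)
    simp [hS0, hS1, hS2, hS3, hS4, xF2, s10, s21, s32, s43] at r0 r1 r2 r3 r4
    refine ⟨A.card, Or.inr (A.isType (T.m (v 0)) (T.w (v 4))
      (fun p hp => A.m_eq (r := 0) (by omega) (by simp [xF2]) p hp)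
      (fun p hp => by interval_cases p <;> simp [wF2] <;> linarith)
      (fun p q hpq hq hm => by
        obtain rfl := hed p q hpq hm
        have : p < 4 := by omega
        interval_cases p <;> simp [eF2] <;> linarith)
      fun p q hpq hq hm => by simp [eF2, hnon p q hq hm])⟩

abbrev e6E (p q : ℕ) : Prop :=
  (p = 0 ∧ q = 1) ∨ (p = 1 ∧ q = 2) ∨ (p = 2 ∧ q = 4) ∨ (p = 2 ∧ q = 6) ∨ (p = 3 ∧ q = 4) ∨
    (p = 5 ∧ q = 6)
abbrev e7E (p q : ℕ) : Prop := (q = p + 1 ∧ q ≤ 6) ∨ (p = 3 ∧ q = 7)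
abbrev e8E (p q : ℕ) : Prop := (q = p + 1 ∧ q ≤ 7) ∨ (p = 5 ∧ q = 8)
def eE (E : ℕ → ℕ → Prop) [DecidableRel E] (p q : ℕ) : ℤ := if E p q then 1 else 0
def x6 (p : ℕ) : ℤ := [1, 2, 3, 1, 2, 1, 2].getD p 1
def x7 (p : ℕ) : ℤ := [1, 2, 3, 4, 3, 2, 1, 2].getD p 1
def x8 (p : ℕ) : ℤ := [1, 2, 3, 4, 5, 6, 4, 2, 3].getD p 1

theorem cfgSL {k : ℕ} {v : ℕ → Fin n} {E : ℕ → ℕ → Prop} [DecidableRel E] {x : ℕ → ℤ}
    (hk : 0 < k) (inj : Inj k v) (two : ∀ p < k, Two T (v p))
    (hx : ∀ p < k, 0 < x p) (hx0 : x 0 = 1) (hlt : ∀ p < k, ∀ q < k, E p q → p < q)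
    (adj : ∀ p < k, ∀ q < k, E p q → T.a (v p) (v q) ≠ 0)
    (bal : ∀ p < k, ∑ q ∈ nb k E p, x q = 2 * x p)
    (conn : ∀ f : ℕ → ℤ, (∀ p < k, ∀ q < k, E p q → f p = f q) → ∀ p < k, f p = f 0) :
    k = n ∧ IsType T (eE E) x one := by
  obtain ⟨A, he⟩ := affineSL (x := x) (S := nb k E) (T := T) (v := v) hk inj two hx
    (fun p hp q hq => by
      obtain ⟨hq, h | h⟩ := mem_nb.1 hq
      · exact ⟨hq, Nat.ne_of_gt (hlt p hp q hq h)⟩
      · exact ⟨hq, Nat.ne_of_lt (hlt q hq p hp h)⟩)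
    (fun p hp q hq => by
      obtain ⟨hq, h | h⟩ := mem_nb.1 hq
      · exact adj p hp q hq h
      · rw [aSymm T]; exact adj q hq p hp h) bal
  have hw := conn (fun p => T.w (v p)) fun p hp q hq h => by
    show T.w (v p) = T.w (v q)
    rw [← he p hp q (mem_nb.2 ⟨hq, Or.inl h⟩), ← he q hq p (mem_nb.2 ⟨hp, Or.inr h⟩), aSymm T]
  refine ⟨A.card, A.isType (T.m (v 0)) (T.w (v 0)) (fun p hp => A.m_eq hk hx0 p hp)
    (fun p hp => by rw [hw p hp]; simp [one]) (fun p q hpq hq hmem => ?_)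
    fun p q hpq hq hmem => ?_⟩
  · have hE : E p q := by
      rcases (mem_nb.1 hmem).2 with h | h
      · exact h
      · exact absurd (hlt q hq p (by omega) h) (by omega)
    simp only [eE]; rw [if_pos hE, one_mul, he p (by omega) q hmem, hw p (by omega)]
  · simp only [eE]; rw [if_neg fun h => hmem (mem_nb.2 ⟨hq, Or.inl h⟩)]

theorem cfgE6 {v : ℕ → Fin n} (inj : Inj 7 v) (two : ∀ p < 7, Two T (v p))
    (adj : ∀ p < 7, ∀ q < 7, e6E p q → T.a (v p) (v q) ≠ 0) :
    7 = n ∧ IsType T (eE e6E) x6 one :=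
  cfgSL (by omega) inj two (fun p hp => by interval_cases p <;> decide) (by decide)
    (fun p _ q _ h => by omega) adj (fun p hp => by interval_cases p <;> decide) fun f hf p hp => by
      have := hf 0 (by omega) 1 (by omega) (by omega)
      have := hf 1 (by omega) 2 (by omega) (by omega)
      have := hf 2 (by omega) 4 (by omega) (by omega)
      have := hf 2 (by omega) 6 (by omega) (by omega)
      have := hf 3 (by omega) 4 (by omega) (by omega)
      have := hf 5 (by omega) 6 (by omega) (by omega)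
      interval_cases p <;> omega

theorem cfgE7 {v : ℕ → Fin n} (inj : Inj 8 v) (two : ∀ p < 8, Two T (v p))
    (adj : ∀ p < 8, ∀ q < 8, e7E p q → T.a (v p) (v q) ≠ 0) :
    8 = n ∧ IsType T (eE e7E) x7 one :=
  cfgSL (by omega) inj two (fun p hp => by interval_cases p <;> decide) (by decide)
    (fun p _ q _ h => by omega) adj (fun p hp => by interval_cases p <;> decide) fun f hf p hp => by
      have := hf 0 (by omega) 1 (by omega) (by omega)
      have := hf 1 (by omega) 2 (by omega) (by omega)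
      have := hf 2 (by omega) 3 (by omega) (by omega)
      have := hf 3 (by omega) 4 (by omega) (by omega)
      have := hf 4 (by omega) 5 (by omega) (by omega)
      have := hf 5 (by omega) 6 (by omega) (by omega)
      have := hf 3 (by omega) 7 (by omega) (by omega)
      interval_cases p <;> omega

theorem cfgE8 {v : ℕ → Fin n} (inj : Inj 9 v) (two : ∀ p < 9, Two T (v p))
    (adj : ∀ p < 9, ∀ q < 9, e8E p q → T.a (v p) (v q) ≠ 0) :
    9 = n ∧ IsType T (eE e8E) x8 one :=
  cfgSL (by omega) inj two (fun p hp => by interval_cases p <;> decide) (by decide)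
    (fun p _ q _ h => by omega) adj (fun p hp => by interval_cases p <;> decide) fun f hf p hp => by
      have := hf 0 (by omega) 1 (by omega) (by omega)
      have := hf 1 (by omega) 2 (by omega) (by omega)
      have := hf 2 (by omega) 3 (by omega) (by omega)
      have := hf 3 (by omega) 4 (by omega) (by omega)
      have := hf 4 (by omega) 5 (by omega) (by omega)
      have := hf 5 (by omega) 6 (by omega) (by omega)
      have := hf 6 (by omega) 7 (by omega) (by omega)
      have := hf 5 (by omega) 8 (by omega) (by omega)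
      interval_cases p <;> omega

end Groth.Agent.NT93
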