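import Groth.Agent.NT93.Graph

namespace Groth.Agent.NT93

open Finset

variable {n : ℕ} {T : Models.NumericalType n}

/-- Extend a finite family of indices to all natural numbers. -/
def ext {t : ℕ} (v : Fin t ↪ Fin n) (z : Fin t) (p : ℕ) : Fin n :=
  if h : p < t then v ⟨p, h⟩ else v z

theorem ext_of_lt {t : ℕ} (v : Fin t ↪ Fin n) (z : Fin t) {p : ℕ} (h : p < t) :
    ext v z p = v ⟨p, h⟩ := by simp [ext, h]

theorem ext_val {t : ℕ} (v : Fin t ↪ Fin n) (z : Fin t) (p : Fin t) : ext v z p = v p := by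
  simp [ext]

theorem ext_inj {t : ℕ} (v : Fin t ↪ Fin n) (z : Fin t) : Inj t (ext v z) := fun p hp q hq e => by
  rw [ext_of_lt v z hp, ext_of_lt v z hq] at e
  simpa using v.injective e

theorem ext_two {t : ℕ} {v : Fin t ↪ Fin n} (hv : ∀ j, T.IsMinusTwo (v j)) (z : Fin t) (p : ℕ) :
    Two T (ext v z p) := by
  unfold ext
  split_ifs <;> exact (hv _).2

section

variable {k : ℕ} {v : ℕ → Fin n}

theorem proper_dbl (h : Path T k v) (two : ∀ p < k, Two T (v p)) (hk : 3 ≤ k) (hkn : k < n)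
    {e : ℕ} (he : e + 1 < k) :
    (T.a (v e) (v (e + 1)) = T.w (v e) ∧ T.a (v e) (v (e + 1)) = T.w (v (e + 1))) ∨
    (T.a (v e) (v (e + 1)) = T.w (v e) ∧ T.a (v e) (v (e + 1)) = 2 * T.w (v (e + 1))) ∨
    (T.a (v e) (v (e + 1)) = 2 * T.w (v e) ∧ T.a (v e) (v (e + 1)) = T.w (v (e + 1))) :=
  edge_double h two (by omega) (by omega) hk he

theorem proper_uniq (h : Path T k v) (two : ∀ p < k, Two T (v p)) (hkn : k < n) {e f : ℕ}
    (hef : e < f) (hf : f + 1 < k) (he : Multi T (v e) (v (e + 1)))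
    (hf' : Multi T (v f) (v (f + 1))) : False := by
  have := (twoMulti h two hef hf he hf').1; omega

theorem proper_inner (h : Path T k v) (two : ∀ p < k, Two T (v p)) (hkn : k < n) (hk : 5 ≤ k)
    {e : ℕ} (h1 : 1 ≤ e) (h2 : e + 2 < k) :
    T.a (v e) (v (e + 1)) = T.w (v e) ∧ T.a (v e) (v (e + 1)) = T.w (v (e + 1)) :=
  single_of_not_multi (h.inj.ne (by omega) (by omega) (by omega)) (h.adj e (by omega)) fun m => by
    have := (multiInner h two h1 h2 hk m).1; omega

/-- A path with a branch inside a proper subset: all edges are simple, with equal `w`. -/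
theorem proper_branch (h : Path T k v) (two : ∀ p < k, Two T (v p)) {j : Fin n} (hj2 : Two T j)
    (hj : ∀ p < k, v p ≠ j) (hkn : k + 1 < n) {i : ℕ} (hi : 1 ≤ i) (hik : i + 1 < k)
    (ha : T.a j (v i) ≠ 0) :
    (∀ p < k, T.w (v p) = T.w (v 0)) ∧ T.w j = T.w (v 0) ∧
    (∀ p, p + 1 < k → T.a (v p) (v (p + 1)) = T.w (v 0)) ∧ T.a (v i) j = T.w (v 0) ∧
    (∀ p l, p + 2 ≤ l → l < k → T.a (v p) (v l) = 0) ∧
    ∀ l < k, l ≠ i → T.a (v l) j = 0 := by
  have hs : ∀ e, e + 1 < k → T.a (v e) (v (e + 1)) = T.w (v e) ∧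
      T.a (v e) (v (e + 1)) = T.w (v (e + 1)) := fun e he =>
    single_of_not_multi (h.inj.ne (by omega) he (by omega)) (h.adj e he) fun m => by
      have := (branchMulti h two hj2 hj hi hik he ha m).1; omega
  have hsj := single_of_not_multi (hj i (by omega)).symm ha fun m => by
    have := (branchMultiOut h two hj2 hj hi hik ha m).1; omega
  have hw : ∀ p < k, T.w (v p) = T.w (v 0) := by
    intro p
    induction p with
    | zero => simp
    | succ p ih =>
      intro hp
      obtain ⟨e1, e2⟩ := hs p hp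
      rw [← ih (by omega), ← e1, e2]
  have hwj : T.w j = T.w (v 0) := by rw [← hw i (by omega), ← hsj.1, hsj.2]
  refine ⟨hw, hwj, fun p hp => by rw [(hs p hp).1, hw p (by omega)],
    by rw [aSymm T, hsj.1, hwj], fun p l h1 h2 => noChord h two (by omega) h1 h2, ?_⟩
  have main : ∀ a b : ℕ, a < b → b < k → T.a j (v a) ≠ 0 → T.a j (v b) ≠ 0 → False :=
    fun a b hab hb ha hb' => by
      have hp := (h.seg a (b + 1 - a) (by omega)).cons (j := j) (fun p hp => hj _ (by omega))
        (by simpa using ha)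
      have := (cycle hp (fun p hp => by
          unfold NT93.cons; split_ifs
          · exact hj2
          · exact two _ (by omega)) (i := 0) (l := b + 1 - a) (by omega) (by omega)
        (by simpa [NT93.cons, show b + 1 - a ≠ 0 by omega,
          show a + (b + 1 - a - 1) = b by omega] using hb')).1
      omega
  intro l hl hli
  rw [aSymm T]
  by_contra hal
  rcases Nat.lt_or_gt_of_ne hli with h' | h'
  · exact main l i h' (by omega) hal ha
  · exact main i l h' hl ha hal

end

theorem row1 {i a : Fin n} (hi : Two T i) (ha : i ≠ a) :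
    T.a i a * T.m a ≤ 2 * T.w i * T.m i := by
  have := nbr_le (T := T) i {a} (by simpa using ha)
  rw [sum_singleton, hi] at this; linarith

theorem row2 {i a b : Fin n} (hi : Two T i) (ha : i ≠ a) (hb : i ≠ b) (hab : a ≠ b) :
    T.a i a * T.m a + T.a i b * T.m b ≤ 2 * T.w i * T.m i := by
  have := nbr_le (T := T) i {a, b} (by simp [ha, hb])
  rw [sum_pair hab, hi] at this; linarith

theorem row3 {i a b c : Fin n} (hi : Two T i) (ha : i ≠ a) (hb : i ≠ b) (hc : i ≠ c) (hab : a ≠ b)
    (hac : a ≠ c) (hbc : b ≠ c) :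
    T.a i a * T.m a + T.a i b * T.m b + T.a i c * T.m c ≤ 2 * T.w i * T.m i := by
  have := nbr_le (T := T) i {a, b, c} (by simp [ha, hb, hc])
  rw [sum_insert (by simp [hab, hac]), sum_pair hbc, hi] at this; linarith

theorem le_of_w_mul {w a b : ℤ} (hw : 0 < w) (h : w * a ≤ w * b) : a ≤ b := by nlinarith

end Groth.Agent.NT93
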