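import Groth.Prelude.Def_Models
import Mathlib.Tactic

namespace Groth.Agent.NT93

open Finset

variable {n : ℕ} (T : Models.NumericalType n)

theorem aSymm (i j : Fin n) : T.a j i = T.a i j := T.symm.apply i j

theorem rowM (i : Fin n) : ∑ l, T.a i l * T.m l = 0 := by
  simpa [Matrix.mulVec, dotProduct] using congrFun T.mulVec_m i

theorem pos_of_ne {i j : Fin n} (hij : i ≠ j) (h : T.a i j ≠ 0) : 0 < T.a i j :=
  lt_of_le_of_ne (T.offDiag_nonneg i j hij) (Ne.symm h)

theorem w_le_of_ne {i j : Fin n} (hij : i ≠ j) (h : T.a i j ≠ 0) : T.w i ≤ T.a i j :=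
  Int.le_of_dvd (pos_of_ne T hij h) (T.w_dvd i j)

theorem w_le_of_ne' {i j : Fin n} (hij : i ≠ j) (h : T.a i j ≠ 0) : T.w j ≤ T.a i j := by
  rw [← aSymm T i j] at h ⊢
  exact w_le_of_ne T hij.symm h

theorem exists_adj_of_ne_univ (I : Finset (Fin n)) (h0 : I.Nonempty) (h1 : ∃ i, i ∉ I) :
    ∃ i ∈ I, ∃ j, j ∉ I ∧ T.a i j ≠ 0 := by
  obtain ⟨i, hi, j, hj, h⟩ :=
    T.connected I h0 (fun h => by obtain ⟨i, hi⟩ := h1; exact hi (h ▸ mem_univ i))
  exact ⟨i, hi, j, hj, h⟩

/-- A nonnegative vector on which the matrix is nonnegative along the support is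
proportional to the multiplicities. -/
theorem key (X : Fin n → ℤ) (h0 : ∀ i, 0 ≤ X i) (hne : ∃ i, 0 < X i)
    (hrow : ∀ i, 0 < X i → 0 ≤ ∑ l, T.a i l * X l) :
    (∀ i, 0 < X i) ∧ (∀ i, ∑ l, T.a i l * X l = 0) ∧ ∀ i l, T.m i * X l = T.m l * X i := by
  classical
  obtain ⟨i1, hi1⟩ := hne
  obtain ⟨i0, -, hmax⟩ := exists_max_image univ (fun i => (X i : ℚ) / T.m i) ⟨i1, mem_univ _⟩
  have hmax' : ∀ i, X i * T.m i0 ≤ X i0 * T.m i := fun i => by
    have h := hmax i (mem_univ _)
    rw [div_le_div_iff₀ (by exact_mod_cast T.m_pos i) (by exact_mod_cast T.m_pos i0)] at h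
    exact_mod_cast h
  have hX0 : 0 < X i0 := by
    have := hmax' i1
    nlinarith [T.m_pos i0, T.m_pos i1]
  set Y : Fin n → ℤ := fun i => X i0 * T.m i - T.m i0 * X i with hY
  have hY0 : ∀ i, 0 ≤ Y i := fun i => by
    simp only [hY]
    nlinarith [hmax' i]
  have hall : ∀ i, Y i = 0 := by
    by_contra hc
    push Not at hc
    obtain ⟨i2, hi2⟩ := hc
    obtain ⟨i, hi, j, hj, ha⟩ := exists_adj_of_ne_univ T (univ.filter fun i => Y i = 0)
      ⟨i0, by simp [hY]; ring⟩ ⟨i2, by simpa using hi2⟩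
    simp only [mem_filter, mem_univ, true_and] at hi hj
    have hXi : 0 < X i := by
      have hh : X i0 * T.m i = T.m i0 * X i := by simp only [hY] at hi; linarith
      nlinarith [T.m_pos i, T.m_pos i0, h0 i]
    have hij : i ≠ j := fun h => hj (h ▸ hi)
    have hterm : ∀ l ∈ (univ : Finset (Fin n)), 0 ≤ T.a i l * Y l := by
      intro l _
      by_cases hl : i = l
      · subst hl; simp [hi]
      · exact mul_nonneg (T.offDiag_nonneg i l hl) (hY0 l)
    have hsum : ∑ l, T.a i l * Y l = - T.m i0 * ∑ l, T.a i l * X l := by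
      have : ∀ l, T.a i l * Y l = X i0 * (T.a i l * T.m l) + - T.m i0 * (T.a i l * X l) :=
        fun l => by simp only [hY]; ring
      simp only [this, sum_add_distrib, ← mul_sum, rowM, mul_zero, zero_add]
    have hle : ∑ l, T.a i l * Y l ≤ 0 := by
      rw [hsum]; nlinarith [hrow i hXi, T.m_pos i0]
    have hgt : 0 < T.a i j * Y j :=
      mul_pos (pos_of_ne T hij ha) (lt_of_le_of_ne (hY0 j) (Ne.symm hj))
    exact absurd (lt_of_lt_of_le hgt (single_le_sum hterm (mem_univ j))) (not_lt.2 hle)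
  have heq : ∀ i, X i0 * T.m i = T.m i0 * X i := fun i => by
    have := hall i; simp only [hY] at this; linarith
  refine ⟨fun i => ?_, fun i => ?_, fun i l => ?_⟩
  · nlinarith [heq i, T.m_pos i, T.m_pos i0, h0 i]
  · have : T.m i0 * ∑ l, T.a i l * X l = 0 := by
      rw [mul_sum]
      calc ∑ l, T.m i0 * (T.a i l * X l) = ∑ l, X i0 * (T.a i l * T.m l) :=
            sum_congr rfl fun l _ => by linear_combination (-(T.a i l)) * heq l
        _ = 0 := by rw [← mul_sum, rowM, mul_zero]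
    exact (mul_eq_zero.1 this).resolve_left (ne_of_gt (T.m_pos i0))
  · have h1 := heq i
    have h2 := heq l
    have : T.m i0 * (T.m i * X l - T.m l * X i) = 0 := by
      linear_combination (-(T.m i)) * h2 + T.m l * h1
    have := (mul_eq_zero.1 this).resolve_left (ne_of_gt (T.m_pos i0))
    linarith

/-- An index with negative diagonal `-2 w`. -/
def Two (i : Fin n) : Prop := T.a i i = -2 * T.w i

theorem Two.of_isMinusTwo {i : Fin n} (h : T.IsMinusTwo i) : Two T i := h.2

/-- Injectivity of a sequence of indices up to `k`. -/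
def Inj (k : ℕ) (v : ℕ → Fin n) : Prop := ∀ p, p < k → ∀ q, q < k → v p = v q → p = q

variable {T}

theorem Inj.ne {k : ℕ} {v : ℕ → Fin n} (h : Inj k v) {p q : ℕ} (hp : p < k) (hq : q < k)
    (hpq : p ≠ q) : v p ≠ v q := fun e => hpq (h p hp q hq e)

theorem Inj.card_image {k : ℕ} {v : ℕ → Fin n} (h : Inj k v) :
    ((range k).image v).card = k := by
  rw [card_image_of_injOn, card_range]
  exact fun p hp q hq e => h p (by simpa using hp) q (by simpa using hq) e

theorem Inj.le {k : ℕ} {v : ℕ → Fin n} (h : Inj k v) : k ≤ n := by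
  rw [← h.card_image]; simpa using card_le_univ ((range k).image v)

theorem Inj.surj {k : ℕ} {v : ℕ → Fin n} (h : Inj k v) (hk : k = n) (i : Fin n) :
    ∃ p < k, v p = i := by
  have : (range k).image v = univ := by
    rw [← card_eq_iff_eq_univ, h.card_image, Fintype.card_fin, hk]
  have hi : i ∈ (range k).image v := this ▸ mem_univ i
  obtain ⟨p, hp, e⟩ := mem_image.1 hi
  exact ⟨p, mem_range.1 hp, e⟩

variable (T)

/-- The conclusion of the criterion for affine configurations. -/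
structure Aff (k : ℕ) (v : ℕ → Fin n) (x : ℕ → ℤ) (S : ℕ → Finset ℕ) : Prop where
  card : k = n
  inj : Inj k v
  two : ∀ p < k, Two T (v p)
  row : ∀ p < k, ∑ q ∈ S p, T.a (v p) (v q) * x q = 2 * T.w (v p) * x p
  off : ∀ p < k, ∀ q < k, q ∉ S p → q ≠ p → T.a (v p) (v q) = 0
  prop : ∀ p < k, ∀ q < k, T.m (v p) * x q = T.m (v q) * x p

variable {T}

theorem affine {k : ℕ} {v : ℕ → Fin n} {x : ℕ → ℤ} {S : ℕ → Finset ℕ} (hk : 0 < k)
    (inj : Inj k v) (two : ∀ p < k, Two T (v p)) (hx : ∀ p < k, 0 < x p)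
    (hS : ∀ p < k, ∀ q ∈ S p, q < k ∧ q ≠ p)
    (hrow : ∀ p < k, 2 * T.w (v p) * x p ≤ ∑ q ∈ S p, T.a (v p) (v q) * x q) :
    Aff T k v x S := by
  classical
  set X : Fin n → ℤ := fun i => ∑ p ∈ range k, if v p = i then x p else 0 with hX
  have hXv : ∀ p < k, X (v p) = x p := fun p hp => by
    simp only [hX]
    rw [sum_eq_single_of_mem p (mem_range.2 hp)]
    · simp
    · intro q hq hqp
      rw [if_neg (inj.ne (mem_range.1 hq) hp hqp)]
  have hXe : ∀ i, 0 < X i → ∃ p < k, v p = i := fun i hi => by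
    obtain ⟨p, hp, hpne⟩ := exists_ne_zero_of_sum_ne_zero (ne_of_gt hi)
    exact ⟨p, mem_range.1 hp, by by_contra h; exact hpne (if_neg h)⟩
  have hAX : ∀ i, ∑ l, T.a i l * X l = ∑ q ∈ range k, T.a i (v q) * x q := fun i => by
    simp only [hX, mul_sum]
    rw [sum_comm]
    exact sum_congr rfl fun q _ => by simp
  have hsplit : ∀ p < k, ∑ q ∈ range k, T.a (v p) (v q) * x q
      = -2 * T.w (v p) * x p + ∑ q ∈ S p, T.a (v p) (v q) * x q
        + ∑ q ∈ (range k).erase p \ S p, T.a (v p) (v q) * x q := fun p hp => by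
    have hsub : S p ⊆ (range k).erase p := fun q hq =>
      mem_erase.2 ⟨(hS p hp q hq).2, mem_range.2 (hS p hp q hq).1⟩
    rw [← add_sum_erase _ _ (mem_range.2 hp), ← sum_sdiff hsub, two p hp]
    ring
  have hrest : ∀ p < k, ∀ q ∈ (range k).erase p \ S p, 0 ≤ T.a (v p) (v q) * x q := by
    intro p hp q hq
    simp only [mem_sdiff, mem_erase, mem_range] at hq
    exact mul_nonneg (T.offDiag_nonneg _ _ (inj.ne hp hq.1.2 (Ne.symm hq.1.1))) (hx q hq.1.2).le
  obtain ⟨hpos, hzero, hprop⟩ := key T X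
    (fun i => sum_nonneg fun p hp => by
      split_ifs
      · exact (hx p (mem_range.1 hp)).le
      · exact le_rfl)
    ⟨v 0, by rw [hXv 0 hk]; exact hx 0 hk⟩
    (fun i hi => by
      obtain ⟨p, hp, rfl⟩ := hXe i hi
      rw [hAX, hsplit p hp]
      linarith [hrow p hp, sum_nonneg (hrest p hp)])
  have hkn : k = n := by
    refine le_antisymm inj.le ?_
    have : (univ : Finset (Fin n)) ⊆ (range k).image v := fun i _ => by
      obtain ⟨p, hp, e⟩ := hXe i (hpos i)
      exact mem_image.2 ⟨p, mem_range.2 hp, e⟩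
    simpa [inj.card_image] using card_le_card this
  have hz : ∀ p < k, ∑ q ∈ S p, T.a (v p) (v q) * x q = 2 * T.w (v p) * x p ∧
      ∑ q ∈ (range k).erase p \ S p, T.a (v p) (v q) * x q = 0 := fun p hp => by
    have h := hzero (v p)
    rw [hAX, hsplit p hp] at h
    have h1 := hrow p hp
    have h2 := sum_nonneg (hrest p hp)
    constructor <;> linarith
  refine ⟨hkn, inj, two, fun p hp => (hz p hp).1, fun p hp q hq hnS hne => ?_, fun p hp q hq => ?_⟩
  · have := (sum_eq_zero_iff_of_nonneg (hrest p hp)).1 (hz p hp).2 q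
      (by simp [hnS, hne, hq])
    exact (mul_eq_zero.1 this).resolve_right (ne_of_gt (hx q hq))
  · have := hprop (v p) (v q)
    rwa [hXv p hp, hXv q hq] at this

/-- Lower bound on the diagonal term coming from finitely many neighbours. -/
theorem nbr_le (i : Fin n) (s : Finset (Fin n)) (hs : i ∉ s) :
    ∑ l ∈ s, T.a i l * T.m l ≤ - T.a i i * T.m i := by
  classical
  have h := rowM T i
  rw [← add_sum_erase _ _ (mem_univ i)] at h
  have h2 : ∑ l ∈ s, T.a i l * T.m l ≤ ∑ l ∈ univ.erase i, T.a i l * T.m l :=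
    sum_le_sum_of_subset_of_nonneg (fun l hl => mem_erase.2 ⟨fun e => hs (e ▸ hl), mem_univ l⟩)
      fun l hl _ => mul_nonneg (T.offDiag_nonneg _ _ (Ne.symm (mem_erase.1 hl).1)) (T.m_pos l).le
  linarith

theorem diag_neg (hn : 1 < n) (i : Fin n) : T.a i i < 0 := by
  obtain ⟨i', hi', j, hj, h⟩ := exists_adj_of_ne_univ T {i} (singleton_nonempty i) (by
    have : Nontrivial (Fin n) := Fin.nontrivial_iff_two_le.2 hn
    obtain ⟨b, hb⟩ := exists_ne i
    exact ⟨b, by simpa using hb⟩)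
  simp only [mem_singleton] at hi' hj
  subst hi'
  have h2 := nbr_le (T := T) i' {j} (by simpa using Ne.symm hj)
  rw [sum_singleton] at h2
  nlinarith [pos_of_ne T (Ne.symm hj) h, T.m_pos j, T.m_pos i']

theorem contrib (hn : 1 < n) (i : Fin n) :
    (T.m i * (2 * T.w i * (T.g i - 1) - T.a i i) < 0 → T.IsMinusOne i) ∧
    (T.m i * (2 * T.w i * (T.g i - 1) - T.a i i) = 0 → T.IsMinusTwo i) := by
  obtain ⟨c, hc⟩ := T.w_dvd i i
  have hw := T.w_pos i
  have hm := T.m_pos i
  have hd := diag_neg (T := T) hn i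
  have hc0 : c < 0 := by nlinarith
  have hg := T.g_nonneg i
  have e : T.m i * (2 * T.w i * (T.g i - 1) - T.a i i) = (T.m i * T.w i) * (2 * T.g i - 2 - c) := by
    rw [hc]; ring
  rw [e]
  have hmw : 0 < T.m i * T.w i := mul_pos hm hw
  constructor
  · intro h
    have h1 : 2 * T.g i - 2 - c < 0 := by nlinarith
    obtain ⟨h2, h3⟩ : T.g i = 0 ∧ c = -1 := by omega
    exact ⟨h2, by rw [hc, h3]; ring⟩
  · intro h
    have h1 : 2 * T.g i - 2 - c = 0 := (mul_eq_zero.1 h).resolve_left (ne_of_gt hmw)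
    obtain ⟨h2, h3⟩ : T.g i = 0 ∧ c = -2 := by omega
    exact ⟨h2, by rw [hc, h3]; ring⟩

/-- In a minimal type of genus one all indices are `(-2)`-indices. -/
theorem allMinusTwo (hn : 1 < n) (hmin : T.IsMinimal) (hg : T.genus = 1) (i : Fin n) :
    T.IsMinusTwo i := by
  have hnn : ∀ j ∈ (univ : Finset (Fin n)),
      0 ≤ T.m j * (2 * T.w j * (T.g j - 1) - T.a j j) := fun j _ => by
    by_contra h
    exact hmin j ((contrib hn j).1 (not_le.1 h))
  have heq : ∑ j, T.m j * (2 * T.w j * (T.g j - 1) - T.a j j)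
      = 2 * (∑ j, T.m j * T.w j * (T.g j - 1)) - ∑ j, T.m j * T.a j j := by
    rw [mul_sum, ← sum_sub_distrib]
    exact sum_congr rfl fun j _ => by ring
  have hnonneg := sum_nonneg hnn
  have hzero : ∑ j, T.m j * (2 * T.w j * (T.g j - 1) - T.a j j) = 0 := by
    unfold Models.NumericalType.genus at hg
    rw [heq] at hnonneg ⊢
    omega
  have hval := (sum_eq_zero_iff_of_nonneg hnn).1 hzero i (mem_univ i)
  exact (contrib hn i).2 hval

end Groth.Agent.NT93
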