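import Groth.Agent.NT93.Sub

namespace Groth.Agent.NT93

open Finset

variable {n : ℕ} {T : Models.NumericalType n}

/-- The three possible patterns of a chain inside a proper subset, whose double edge, if any, is
at the end (or in the middle for four indices). -/
def Pat (T : Models.NumericalType n) (k : ℕ) (v : ℕ → Fin n) (w : ℤ) : Prop :=
  ((∀ p < k, T.w (v p) = w) ∧ ∀ p, p + 1 < k → T.a (v p) (v (p + 1)) = w) ∨
  ((∀ p, p + 1 < k → T.w (v p) = w) ∧ (∀ p, p + 1 = k → T.w (v p) = 2 * w) ∧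
    (∀ p, p + 2 < k → T.a (v p) (v (p + 1)) = w) ∧
    ∀ p, p + 2 = k → T.a (v p) (v (p + 1)) = 2 * w) ∨
  ((∀ p, p + 1 < k → T.w (v p) = 2 * w) ∧ (∀ p, p + 1 = k → T.w (v p) = w) ∧
    ∀ p, p + 1 < k → T.a (v p) (v (p + 1)) = 2 * w) ∨
  (k = 4 ∧ T.w (v 0) = w ∧ T.w (v 1) = w ∧ T.w (v 2) = 2 * w ∧ T.w (v 3) = 2 * w ∧
    T.a (v 0) (v 1) = w ∧ T.a (v 1) (v 2) = 2 * w ∧ T.a (v 2) (v 3) = 2 * w)

theorem w_const {k : ℕ} {v : ℕ → Fin n} (b : ℕ) (hb : b < k)
    (hs : ∀ e, e + 1 ≤ b → T.a (v e) (v (e + 1)) = T.w (v e) ∧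
      T.a (v e) (v (e + 1)) = T.w (v (e + 1))) :
    ∀ p ≤ b, T.w (v p) = T.w (v 0) := by
  intro p
  induction p with
  | zero => simp
  | succ p ih =>
    intro hp
    obtain ⟨e1, e2⟩ := hs p hp
    rw [← ih (by omega), ← e1, e2]

theorem pat_end {k : ℕ} {v : ℕ → Fin n} (hk : 3 ≤ k)
    (hs : ∀ e, e + 2 < k → T.a (v e) (v (e + 1)) = T.w (v e) ∧
      T.a (v e) (v (e + 1)) = T.w (v (e + 1)))
    (hl : T.a (v (k - 2)) (v (k - 1)) = T.w (v (k - 2)) ∧
        T.a (v (k - 2)) (v (k - 1)) = T.w (v (k - 1)) ∨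
      T.a (v (k - 2)) (v (k - 1)) = T.w (v (k - 2)) ∧
        T.a (v (k - 2)) (v (k - 1)) = 2 * T.w (v (k - 1)) ∨
      T.a (v (k - 2)) (v (k - 1)) = 2 * T.w (v (k - 2)) ∧
        T.a (v (k - 2)) (v (k - 1)) = T.w (v (k - 1))) : ∃ w, Pat T k v w := by
  have hw := w_const (k := k) (v := v) (k - 2) (by omega) fun e he => hs e (by omega)
  have hp2 := hw (k - 2) le_rfl
  have he : ∀ p, p + 2 < k → T.a (v p) (v (p + 1)) = T.w (v 0) := fun p hp => by
    rw [(hs p hp).1, hw p (by omega)]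
  rcases hl with ⟨g1, g2⟩ | ⟨g1, g2⟩ | ⟨g1, g2⟩
  · refine ⟨T.w (v 0), Or.inl ⟨fun p hp => ?_, fun p hp => ?_⟩⟩
    · by_cases h : p + 1 = k
      · rw [show p = k - 1 by omega, ← g2, g1, hp2]
      · exact hw p (by omega)
    · by_cases h : p + 2 = k
      · rw [show p = k - 2 by omega, show k - 2 + 1 = k - 1 by omega, g1, hp2]
      · exact he p (by omega)
  · refine ⟨T.w (v (k - 1)), Or.inr (Or.inr (Or.inl ⟨fun p hp => ?_, fun p hp => ?_, fun p hp => ?_⟩))⟩
    · rw [hw p (by omega), ← hp2, ← g1, g2]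
    · rw [show p = k - 1 by omega]
    · by_cases h : p + 2 = k
      · rw [show p = k - 2 by omega, show k - 2 + 1 = k - 1 by omega, g2]
      · rw [he p (by omega), ← hp2, ← g1, g2]
  · refine ⟨T.w (v 0), Or.inr (Or.inl ⟨fun p hp => hw p (by omega), fun p hp => ?_, he, fun p hp => ?_⟩)⟩
    · rw [show p = k - 1 by omega, ← g2, g1, hp2]
    · rw [show p = k - 2 by omega, show k - 2 + 1 = k - 1 by omega, g1, hp2]

/-- Classification of chains of `(-2)`-indices inside a proper subset. -/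
theorem chainPat {k : ℕ} {v : ℕ → Fin n} (hk : 3 ≤ k) (hkn : k < n) (h : Path T k v)
    (two : ∀ p < k, Two T (v p)) :
    ∃ (rv : Bool) (w : ℤ), Pat T k (if rv then fun p => v (k - 1 - p) else v) w := by
  have dbl : ∀ e, e + 1 < k → _ := fun e he => proper_dbl h two hk hkn he
  by_cases hM : ∃ e, e + 1 < k ∧ Multi T (v e) (v (e + 1))
  · obtain ⟨e, he, me⟩ := hM
    have sing : ∀ f, f + 1 < k → f ≠ e →
        T.a (v f) (v (f + 1)) = T.w (v f) ∧ T.a (v f) (v (f + 1)) = T.w (v (f + 1)) :=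
      fun f hf hne => single_of_not_multi (h.inj.ne (by omega) hf (by omega)) (h.adj f hf) fun mf => by
        rcases Nat.lt_or_gt_of_ne hne with h' | h'
        · exact proper_uniq h two hkn h' he mf me
        · exact proper_uniq h two hkn h' hf me mf
    rcases (show e + 2 = k ∨ e = 0 ∨ (k = 4 ∧ e = 1) ∨ (1 ≤ e ∧ e + 2 < k ∧ 5 ≤ k) by omega) with
      hl | hl | ⟨rfl, rfl⟩ | ⟨h1, h2, h5⟩
    · obtain ⟨w, hw⟩ := pat_end hk (fun f hf => sing f (by omega) (by omega)) (by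
        rw [show k - 2 = e by omega, show k - 1 = e + 1 by omega]; exact dbl e he)
      exact ⟨false, w, hw⟩
    · subst hl
      obtain ⟨w, hw⟩ := pat_end (T := T) (v := fun p => v (k - 1 - p)) hk (fun f hf => by
          have := sing (k - 2 - f) (by omega) (by omega)
          rw [show k - 1 - f = k - 2 - f + 1 by omega, show k - 1 - (f + 1) = k - 2 - f by omega,
            aSymm T]
          exact ⟨this.2, this.1⟩) (by
        rw [show k - 1 - (k - 2) = 0 + 1 by omega, show k - 1 - (k - 1) = 0 by omega, aSymm T]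
        rcases dbl 0 he with d | d | d
        · exact Or.inl ⟨d.2, d.1⟩
        · exact Or.inr (Or.inr ⟨d.2, d.1⟩)
        · exact Or.inr (Or.inl ⟨d.2, d.1⟩))
      exact ⟨true, w, hw⟩
    · obtain ⟨a1, a2⟩ := sing 0 (by omega) (by omega)
      obtain ⟨c1, c2⟩ := sing 2 (by omega) (by omega)
      simp only [Nat.reduceAdd, Nat.zero_add] at a1 a2 c1 c2
      rcases dbl 1 he with ⟨g1, g2⟩ | ⟨g1, g2⟩ | ⟨g1, g2⟩
      · exfalso
        have := T.w_pos (v 1)
        have := T.w_pos (v 2)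
        rcases me with me | me <;> linarith
      · refine ⟨true, T.w (v 2), Or.inr (Or.inr (Or.inr ⟨rfl, ?_⟩))⟩
        simp only [if_true, Nat.reduceSub, Nat.reduceAdd] at *
        rw [aSymm T (v 2) (v 3), aSymm T (v 1) (v 2), aSymm T (v 0) (v 1)]
        refine ⟨?_, ?_, ?_, ?_, ?_, ?_, ?_⟩ <;> first | trivial | linarith
      · refine ⟨false, T.w (v 1), Or.inr (Or.inr (Or.inr ⟨rfl, ?_⟩))⟩
        simp only [Bool.false_eq_true, if_false, Nat.reduceAdd] at *
        refine ⟨?_, ?_, ?_, ?_, ?_, ?_, ?_⟩ <;> first | trivial | linarith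
    · exfalso
      have := (multiInner h two h1 h2 h5 me).1; omega
  · push Not at hM
    have sing := fun f (hf : f + 1 < k) =>
      single_of_not_multi (h.inj.ne (by omega) hf (by omega)) (h.adj f hf) (hM f hf)
    obtain ⟨w, hw⟩ := pat_end hk (fun f hf => sing f (by omega)) (Or.inl (by
      have := sing (k - 2) (by omega)
      rwa [show k - 2 + 1 = k - 1 by omega] at this))
    exact ⟨false, w, hw⟩

end Groth.Agent.NT93
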