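import Groth.Agent.NT93.Chain

namespace Groth.Agent.NT93

variable {n : ℕ} {T : Models.NumericalType n}

theorem Pat.congr {k : ℕ} {u v : ℕ → Fin n} {w : ℤ} (e : ∀ p < k, u p = v p) (h : Pat T k u w) :
    Pat T k v w := by
  rcases h with ⟨g1, g2⟩ | ⟨g1, g2, g3, g4⟩ | ⟨g1, g2, g3⟩ | ⟨g, g0, g1, g2, g3, e0, e1, e2⟩
  · exact Or.inl ⟨fun p hp => e p hp ▸ g1 p hp,
      fun p hp => e p (by omega) ▸ e (p + 1) hp ▸ g2 p hp⟩
  · exact Or.inr (Or.inl ⟨fun p hp => e p (by omega) ▸ g1 p hp,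
      fun p hp => e p (by omega) ▸ g2 p hp,
      fun p hp => e p (by omega) ▸ e (p + 1) (by omega) ▸ g3 p hp,
      fun p hp => e p (by omega) ▸ e (p + 1) (by omega) ▸ g4 p hp⟩)
  · exact Or.inr (Or.inr (Or.inl ⟨fun p hp => e p (by omega) ▸ g1 p hp,
      fun p hp => e p (by omega) ▸ g2 p hp,
      fun p hp => e p (by omega) ▸ e (p + 1) (by omega) ▸ g3 p hp⟩))
  · subst g
    rw [e 0 (by omega)] at g0 e0
    rw [e 1 (by omega)] at g1 e0 e1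
    rw [e 2 (by omega)] at g2 e1 e2
    rw [e 3 (by omega)] at g3 e2
    exact Or.inr (Or.inr (Or.inr ⟨rfl, g0, g1, g2, g3, e0, e1, e2⟩))

end Groth.Agent.NT93
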