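import Groth.Agent.NT93.Classify

namespace Groth.Agent.NT93

open Finset

variable {n : ℕ} {T : Models.NumericalType n}

theorem nonzero_of_cancel {w a b : ℤ} (hw : 0 < w) (h : w * a = w * b) : a = b :=
  mul_left_cancel₀ (ne_of_gt hw) h

/-- A chain on four indices with the double edge in the middle is not affine. -/
theorem middle4_false {v : ℕ → Fin 4} {T : Models.NumericalType 4} (h : Path T 4 v)
    (two : ∀ i, Two T i) (nc : ∀ i l, i + 2 ≤ l → l < 4 → T.a (v i) (v l) = 0)
    (h0 : T.a (v 0) (v 1) = T.w (v 0) ∧ T.a (v 0) (v 1) = T.w (v 1))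
    (h2 : T.a (v 2) (v 3) = T.w (v 2) ∧ T.a (v 2) (v 3) = T.w (v 3))
    (h1 : T.a (v 1) (v 2) = T.w (v 1) ∧ T.a (v 1) (v 2) = 2 * T.w (v 2) ∨
      T.a (v 1) (v 2) = 2 * T.w (v 1) ∧ T.a (v 1) (v 2) = T.w (v 2)) : False := by
  classical
  have hu : ∀ l, l = v 0 ∨ l = v 1 ∨ l = v 2 ∨ l = v 3 := fun l => by
    obtain ⟨p, hp, rfl⟩ := h.inj.surj rfl l
    interval_cases p <;> simp
  have ne : ∀ p q : ℕ, p < 4 → q < 4 → p ≠ q → v p ≠ v q := fun p q hp hq => h.inj.ne hp hq
  have s10 := aSymm T (v 0) (v 1)
  have s21 := aSymm T (v 1) (v 2)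
  have s32 := aSymm T (v 2) (v 3)
  have r0 := row_eq (two (v 0)) {v 1} (by simpa using ne 0 1 (by omega) (by omega) (by omega))
    fun l hl hl' => by
      rcases hu l with rfl | rfl | rfl | rfl
      · exact absurd rfl hl
      · simp at hl'
      · exact nc 0 2 (by omega) (by omega)
      · exact nc 0 3 (by omega) (by omega)
  have r3 := row_eq (two (v 3)) {v 2} (by simpa using ne 3 2 (by omega) (by omega) (by omega))
    fun l hl hl' => by
      rw [aSymm T]
      rcases hu l with rfl | rfl | rfl | rfl
      · exact nc 0 3 (by omega) (by omega)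
      · exact nc 1 3 (by omega) (by omega)
      · simp at hl'
      · exact absurd rfl hl
  have r1 := row_eq (two (v 1)) {v 0, v 2}
    (by simp [ne 1 0 (by omega) (by omega) (by omega), ne 1 2 (by omega) (by omega) (by omega)])
    fun l hl hl' => by
      rcases hu l with rfl | rfl | rfl | rfl
      · simp at hl'
      · exact absurd rfl hl
      · simp at hl'
      · exact nc 1 3 (by omega) (by omega)
  have r2 := row_eq (two (v 2)) {v 1, v 3}
    (by simp [ne 2 1 (by omega) (by omega) (by omega), ne 2 3 (by omega) (by omega) (by omega)])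
    fun l hl hl' => by
      rcases hu l with rfl | rfl | rfl | rfl
      · rw [aSymm T]; exact nc 0 2 (by omega) (by omega)
      · simp at hl'
      · exact absurd rfl hl
      · simp at hl'
  rw [sum_singleton, h0.1] at r0
  rw [sum_singleton, s32, h2.2] at r3
  rw [sum_pair (ne 0 2 (by omega) (by omega) (by omega)), s10, h0.2] at r1
  rw [sum_pair (ne 1 3 (by omega) (by omega) (by omega)), s21, h2.1] at r2
  have w1 := T.w_pos (v 1)
  have w2 := T.w_pos (v 2)
  have e0 : T.m (v 1) = 2 * T.m (v 0) :=
    nonzero_of_cancel (T.w_pos (v 0)) (by linear_combination r0)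
  have e3 : T.m (v 2) = 2 * T.m (v 3) :=
    nonzero_of_cancel (T.w_pos (v 3)) (by linear_combination r3)
  have p0 := T.m_pos (v 0)
  have p3 := T.m_pos (v 3)
  rcases h1 with ⟨g1, g2⟩ | ⟨g1, g2⟩
  · rw [g1] at r1; rw [g2] at r2
    have e1 : T.m (v 0) + T.m (v 2) = 2 * T.m (v 1) :=
      nonzero_of_cancel w1 (by linear_combination r1)
    have e2 : 2 * T.m (v 1) + T.m (v 3) = 2 * T.m (v 2) :=
      nonzero_of_cancel w2 (by linear_combination r2)
    linarith
  · rw [g1] at r1; rw [g2] at r2
    have e1 : T.m (v 0) + 2 * T.m (v 2) = 2 * T.m (v 1) :=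
      nonzero_of_cancel w1 (by linear_combination r1)
    have e2 : T.m (v 1) + T.m (v 3) = 2 * T.m (v 2) :=
      nonzero_of_cancel w2 (by linear_combination r2)
    linarith

/-- The case of a spanning path without chords. -/
theorem pathCase {v : ℕ → Fin n} (hn : 3 ≤ n) (h : Path T n v) (two : ∀ i, Two T i)
    (nc : ∀ i l, i + 2 ≤ l → l < n → T.a (v i) (v l) = 0) : Classified T := by
  have two' : ∀ p < n, Two T (v p) := fun p _ => two _
  by_cases hM : ∃ e f, e < f ∧ f + 1 < n ∧ Multi T (v e) (v (e + 1)) ∧ Multi T (v f) (v (f + 1))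
  · obtain ⟨e, f, hef, hf, he, hf'⟩ := hM
    exact Classified.ofC (twoMulti h two' hef hf he hf').2
  have huniq : ∀ e f, e + 1 < n → f + 1 < n → Multi T (v e) (v (e + 1)) →
      Multi T (v f) (v (f + 1)) → e = f := fun e f he hf me mf => by
    rcases lt_trichotomy e f with h' | h' | h'
    · exact absurd ⟨e, f, h', hf, me, mf⟩ hM
    · exact h'
    · exact absurd ⟨f, e, h', he, mf, me⟩ hM
  have sing : ∀ e, e + 1 < n → ¬ Multi T (v e) (v (e + 1)) →
      T.a (v e) (v (e + 1)) = T.w (v e) ∧ T.a (v e) (v (e + 1)) = T.w (v (e + 1)) := fun e he hm =>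
    single_of_not_multi (h.inj.ne (by omega) he (by omega)) (h.adj e he) hm
  by_cases hG : Classified T
  · exact hG
  exfalso
  by_cases hn3' : 3 = n ∧ (IsType T eG1 xG1 wG1 ∨ IsType T eG2 xG2 wG2)
  · exact hG (Classified.ofG hn3')
  have dbl : ∀ e, e + 1 < n →
      (T.a (v e) (v (e + 1)) = T.w (v e) ∧ T.a (v e) (v (e + 1)) = T.w (v (e + 1))) ∨
      (T.a (v e) (v (e + 1)) = T.w (v e) ∧ T.a (v e) (v (e + 1)) = 2 * T.w (v (e + 1))) ∨
      (T.a (v e) (v (e + 1)) = 2 * T.w (v e) ∧ T.a (v e) (v (e + 1)) = T.w (v (e + 1))) := by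
    intro e he
    obtain ⟨c, hc, hh⟩ := edge_cases (by omega) (h.inj.ne (by omega) he (by omega)) (two _) (two _)
      (h.adj e he)
    rcases hc with rfl | rfl | rfl
    · simp only [one_mul] at hh; rcases hh with hh | hh <;> exact Or.inl hh
    · rcases hh with hh | hh
      · exact Or.inr (Or.inl hh)
      · exact Or.inr (Or.inr hh)
    · exfalso
      refine hn3' (tripleEdge h two' he hn ?_)
      rcases hh with hh | hh
      · exact Or.inr hh.2.ge
      · exact Or.inl hh.1.ge
  by_cases hE : ∃ e, e + 1 < n ∧ Multi T (v e) (v (e + 1))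
  · obtain ⟨e, he, me⟩ := hE
    have others : ∀ f, f + 1 < n → f ≠ e → ¬ Multi T (v f) (v (f + 1)) := fun f hf hne mf =>
      hne (huniq f e hf he mf me)
    rcases (show e + 2 = n ∨ e = 0 ∨ (1 ≤ e ∧ e + 2 < n) by omega) with hl | hl | ⟨h1, h2⟩
    · refine chain_false hn h two nc (fun f hf => sing f (by omega) (others f (by omega) (by omega)))
        fun f hf => ?_
      obtain rfl : f = e := by omega
      exact dbl f he
    · subst hl
      refine chain_false hn h.rev two (fun i l hil hl => ?_) (fun f hf => ?_) fun f hf => ?_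
      · rw [aSymm T]; exact nc _ _ (by omega) (by omega)
      · have := sing (n - 2 - f) (by omega) (others _ (by omega) (by omega))
        rw [show n - 1 - f = n - 2 - f + 1 by omega, show n - 1 - (f + 1) = n - 2 - f by omega,
          aSymm T]
        exact ⟨this.2, this.1⟩
      · rw [show n - 1 - f = 0 + 1 by omega, show n - 1 - (f + 1) = 0 by omega, aSymm T]
        rcases dbl 0 he with d | d | d
        · exact Or.inl ⟨d.2, d.1⟩
        · exact Or.inr (Or.inr ⟨d.2, d.1⟩)
        · exact Or.inr (Or.inl ⟨d.2, d.1⟩)
    · by_cases h5 : 5 ≤ n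
      · exact hG (Classified.ofF (multiInner h two' h1 h2 h5 me))
      · obtain rfl : n = 4 := by omega
        obtain rfl : e = 1 := by omega
        refine middle4_false h two nc (sing 0 (by omega) (others 0 (by omega) (by omega)))
          (sing 2 (by omega) (others 2 (by omega) (by omega))) ?_
        rcases dbl 1 he with d | d | d
        · exfalso
          have := T.w_pos (v 1)
          have := T.w_pos (v 2)
          rcases me with me | me <;> linarith [d.1, d.2]
        · exact Or.inl d
        · exact Or.inr d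
  · push Not at hE
    exact chain_false hn h two nc (fun f hf => sing f (by omega) (hE f (by omega)))
      fun f hf => Or.inl (sing f (by omega) (hE f (by omega)))

/-- A graph of shape `T(1, i, k - 1 - i)`. -/
theorem tShape {k : ℕ} {v : ℕ → Fin n} (h : Path T k v) (two : ∀ i, Two T i) (hn : n = k + 1)
    {j : Fin n} (hj : ∀ p < k, v p ≠ j) {i : ℕ} (hi : 1 ≤ i) (hik : i + 1 < k)
    (hiq : 2 * i + 1 ≤ k) (ha : T.a j (v i) ≠ 0)
    (nc : ∀ p l, p + 2 ≤ l → l < k → T.a (v p) (v l) = 0)
    (nj : ∀ l < k, l ≠ i → T.a j (v l) = 0)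
    (hs : ∀ e, e + 1 < k → T.a (v e) (v (e + 1)) = T.w (v e) ∧
      T.a (v e) (v (e + 1)) = T.w (v (e + 1)))
    (hsj : T.a j (v i) = T.w j ∧ T.a j (v i) = T.w (v i)) : Classified T := by
  classical
  by_cases h3 : 3 ≤ i
  · refine Classified.ofE7 (cfgE7 (v := fun p => if p = 7 then j else v (i - 3 + p)) ?_
      (fun p _ => two _) ?_)
    · intro p hp q hq e
      (try dsimp only at e)
      split_ifs at e <;>
        first
        | omega
        | exact absurd e (hj _ (by omega))
        | exact absurd e.symm (hj _ (by omega))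
        | (have := h.inj _ (by omega) _ (by omega) e; omega)
    · intro p hp q hq hpq
      rcases hpq with ⟨rfl, hq6⟩ | ⟨rfl, rfl⟩
      · rw [if_neg (by omega), if_neg (by omega),
          show i - 3 + (p + 1) = i - 3 + p + 1 by omega]
        exact h.adj _ (by omega)
      · rw [if_neg (by omega), if_pos rfl, show i - 3 + 3 = i by omega, aSymm T]; exact ha
  by_cases h25 : i = 2 ∧ 8 ≤ k
  · obtain ⟨rfl, h8⟩ := h25
    refine Classified.ofE8 (cfgE8 (v := fun p => if p = 8 then j else v (7 - p)) ?_
      (fun p _ => two _) ?_)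
    · intro p hp q hq e
      (try dsimp only at e)
      split_ifs at e <;>
        first
        | omega
        | exact absurd e (hj _ (by omega))
        | exact absurd e.symm (hj _ (by omega))
        | (have := h.inj _ (by omega) _ (by omega) e; omega)
    · intro p hp q hq hpq
      rcases hpq with ⟨rfl, hq7⟩ | ⟨rfl, rfl⟩
      · rw [if_neg (by omega), if_neg (by omega), show 7 - p = 7 - (p + 1) + 1 by omega, aSymm T]
        exact h.adj _ (by omega)
      · rw [if_neg (by omega), if_pos rfl, aSymm T]; exact ha
  exfalso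
  have hu : ∀ l, l = j ∨ ∃ p < k, v p = l := by
    intro l
    have hinj : Inj (k + 1) (fun p => if p < k then v p else j) := fun p hp q hq e => by
      (try dsimp only at e)
      split_ifs at e
      · exact h.inj p (by omega) q (by omega) e
      · exact absurd e (hj _ (by omega))
      · exact absurd e.symm (hj _ (by omega))
      · omega
    obtain ⟨p, hp, e⟩ := hinj.surj hn.symm l
    (try dsimp only at e)
    split_ifs at e with hpk
    · exact Or.inr ⟨p, hpk, e⟩
    · exact Or.inl e.symm
  have hw : ∀ p < k, T.w (v p) = T.w (v 0) := by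
    intro p
    induction p with
    | zero => simp
    | succ p ih =>
      intro hp
      obtain ⟨e1, e2⟩ := hs p hp
      rw [← ih (by omega), ← e1, e2]
  have he : ∀ e, e + 1 < k → T.a (v e) (v (e + 1)) = T.w (v 0) := fun e he => by
    rw [(hs e he).1, hw e (by omega)]
  have hwj : T.w j = T.w (v 0) := by rw [← hw i (by omega), ← hsj.1, hsj.2]
  have haj : T.a (v i) j = T.w (v 0) := by rw [aSymm T, hsj.1, hwj]
  have W0 := T.w_pos (v 0)
  have ne : ∀ p q : ℕ, p < k → q < k → p ≠ q → v p ≠ v q := fun p q hp hq => h.inj.ne hp hq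
  have zero : ∀ p < k, ∀ q < k, q ≠ p → q ≠ p + 1 → p ≠ q + 1 → T.a (v p) (v q) = 0 := by
    intro p hp q hq h1 h2 h3
    rcases (show p + 2 ≤ q ∨ q + 2 ≤ p by omega) with h' | h'
    · exact nc p q h' hq
    · rw [aSymm T]; exact nc q p h' hp
  have hinner : ∀ p, p + 2 < k → p + 1 ≠ i →
      T.m (v p) + T.m (v (p + 2)) = 2 * T.m (v (p + 1)) := by
    intro p hp hpi
    have e := row_eq (two (v (p + 1))) {v p, v (p + 2)}
      (by simp [ne (p + 1) p (by omega) (by omega) (by omega),
        ne (p + 1) (p + 2) (by omega) (by omega) (by omega)]) fun l hl hl' => by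
      rcases hu l with rfl | ⟨q, hq, rfl⟩
      · rw [aSymm T]; exact nj (p + 1) (by omega) hpi
      · refine zero _ (by omega) q hq (fun e => hl (by rw [e])) (fun e => hl' ?_) fun e => hl' ?_
        · simp [e]
        · simp [show q = p by omega]
    rw [sum_pair (ne p (p + 2) (by omega) (by omega) (by omega)), aSymm T, he p (by omega),
      hw (p + 1) (by omega), he (p + 1) (by omega)] at e
    exact nonzero_of_cancel W0 (by linear_combination e)
  have hfirst : T.m (v 1) = 2 * T.m (v 0) := by
    have e := row_eq (two (v 0)) {v 1} (by simpa using ne 0 1 (by omega) (by omega) (by omega))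
      fun l hl hl' => by
      rcases hu l with rfl | ⟨q, hq, rfl⟩
      · rw [aSymm T]; exact nj 0 (by omega) (by omega)
      · exact zero 0 (by omega) q hq (fun e => hl (by rw [e])) (fun e => hl' (by simp [e]))
          (by omega)
    rw [sum_singleton, he 0 (by omega)] at e
    exact nonzero_of_cancel W0 (by linear_combination e)
  have hlast : T.m (v (k - 2)) = 2 * T.m (v (k - 1)) := by
    have e := row_eq (two (v (k - 1))) {v (k - 2)}
      (by simpa using ne (k - 1) (k - 2) (by omega) (by omega) (by omega)) fun l hl hl' => by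
      rcases hu l with rfl | ⟨q, hq, rfl⟩
      · rw [aSymm T]; exact nj (k - 1) (by omega) (by omega)
      · exact zero (k - 1) (by omega) q hq (fun e => hl (by rw [e])) (by omega)
          fun e => hl' (by simp [show q = k - 2 by omega])
    have e2 := he (k - 2) (by omega)
    rw [show k - 2 + 1 = k - 1 by omega] at e2
    rw [sum_singleton, aSymm T, e2, hw (k - 1) (by omega)] at e
    exact nonzero_of_cancel W0 (by linear_combination e)
  have hjrow : T.m (v i) = 2 * T.m j := by
    have e := row_eq (two j) {v i} (by simpa using (hj i (by omega)).symm) fun l hl hl' => by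
      rcases hu l with rfl | ⟨q, hq, rfl⟩
      · exact absurd rfl hl
      · exact nj q hq fun e => hl' (by simp [e])
    rw [sum_singleton, hsj.1, hwj] at e
    exact nonzero_of_cancel W0 (by linear_combination e)
  have hbranch : T.m (v (i - 1)) + T.m (v (i + 1)) + T.m j = 2 * T.m (v i) := by
    have e := row_eq (two (v i)) {v (i - 1), v (i + 1), j}
      (by simp [ne i (i - 1) (by omega) (by omega) (by omega),
        ne i (i + 1) (by omega) (by omega) (by omega), hj i (by omega)]) fun l hl hl' => by
      rcases hu l with rfl | ⟨q, hq, rfl⟩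
      · simp at hl'
      · refine zero i (by omega) q hq (fun e => hl (by rw [e])) (fun e => hl' ?_) fun e => hl' ?_
        · simp [e]
        · simp [show q = i - 1 by omega]
    have e2 := he (i - 1) (by omega)
    rw [show i - 1 + 1 = i by omega] at e2
    rw [sum_insert (by simp [ne (i - 1) (i + 1) (by omega) (by omega) (by omega),
        hj (i - 1) (by omega)]), sum_pair (hj (i + 1) (by omega)), aSymm T, e2, he i hik, haj,
      hw i (by omega)] at e
    exact nonzero_of_cancel W0 (by linear_combination e)
  have harm : ∀ l : ℕ, l + i + 1 ≤ k → T.m (v (k - 1 - l)) = (l + 1 : ℤ) * T.m (v (k - 1)) := by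
    intro l
    induction l using Nat.strong_induction_on with
    | _ l ih =>
      intro hl
      match l with
      | 0 => simp
      | 1 =>
        rw [show k - 1 - 1 = k - 2 by omega, hlast]; norm_num
      | l + 2 =>
        have e := hinner (k - 1 - (l + 2)) (by omega) (by omega)
        rw [show k - 1 - (l + 2) + 2 = k - 1 - l by omega,
          show k - 1 - (l + 2) + 1 = k - 1 - (l + 1) by omega, ih l (by omega) (by omega),
          ih (l + 1) (by omega) (by omega)] at e
        push_cast at e ⊢; linarith
  have hA := harm (k - 1 - i) (by omega)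
  have hB := harm (k - 2 - i) (by omega)
  rw [show k - 1 - (k - 1 - i) = i by omega] at hA
  rw [show k - 1 - (k - 2 - i) = i + 1 by omega] at hB
  have p0 := T.m_pos (v 0)
  have pt := T.m_pos (v (k - 1))
  rcases (show i = 1 ∨ i = 2 by omega) with rfl | rfl
  · obtain ⟨c, rfl⟩ : ∃ c, k = c + 3 := ⟨k - 3, by omega⟩
    simp only [show c + 3 - 1 - 1 = c + 1 from rfl, show c + 3 - 2 - 1 = c from rfl] at hA hB
    push_cast at hA hB
    rw [show 1 - 1 = 0 from rfl, show 1 + 1 = 2 from rfl] at hbranch
    simp only [show c + 3 - 1 = c + 2 from rfl] at pt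
    linarith
  · have e := hinner 0 (by omega) (by omega)
    rw [show 2 - 1 = 1 from rfl] at hbranch
    simp only [Nat.zero_add] at e
    have hk : k = 5 ∨ k = 6 ∨ k = 7 := by omega
    rcases hk with rfl | rfl | rfl <;> norm_num at hA hB hbranch pt <;> linarith

/-- The classification of the types all of whose indices are `(-2)`-indices. -/
theorem classify (hn : 3 ≤ n) (two : ∀ i, Two T i) : Classified T := by
  classical
  let P : ℕ → Prop := fun k => ∃ v, Path T k v
  have h2 : P 2 := by
    obtain ⟨a, ha, b, hb, hab⟩ := exists_adj_of_ne_univ T {(⟨0, by omega⟩ : Fin n)}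
      (singleton_nonempty _) ⟨⟨1, by omega⟩, by simp⟩
    refine ⟨fun p => if p = 0 then a else b, fun p hp q hq e => ?_, fun p hp => ?_⟩
    · have hne : a ≠ b := by
        rintro rfl; exact hb ha
      (try dsimp only at e)
      split_ifs at e <;> first | omega | exact absurd e hne | exact absurd e.symm hne
    · obtain rfl : p = 0 := by omega
      simpa using hab
  obtain ⟨v, h⟩ : P (Nat.findGreatest P n) := Nat.findGreatest_spec (m := 2) (by omega) h2
  set k := Nat.findGreatest P n with hk
  have hk2 : 2 ≤ k := Nat.le_findGreatest (by omega) h2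
  have hmax : ∀ k' v', Path T k' v' → k' ≤ k := fun k' v' h' =>
    Nat.le_findGreatest h'.inj.le ⟨v', h'⟩
  have two' : ∀ p < k, Two T (v p) := fun p _ => two _
  by_cases hc : ∃ p l, p + 2 ≤ l ∧ l < k ∧ T.a (v p) (v l) ≠ 0
  · obtain ⟨p, l, h1, h3, h4⟩ := hc
    exact Classified.ofA (cycle h two' h1 h3 h4).2
  push Not at hc
  rcases lt_or_eq_of_le h.inj.le with hkn | hkn
  swap
  · rw [hkn] at h; exact pathCase hn h two fun p l h1 h3 => hc p l h1 (hkn ▸ h3)
  obtain ⟨x, hx, j, hj', hxj⟩ := exists_adj_of_ne_univ T ((range k).image v)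
    ⟨v 0, mem_image_of_mem _ (mem_range.2 (by omega))⟩ (by
      by_contra hcon
      push Not at hcon
      have := card_le_card (s := (univ : Finset (Fin n))) (t := (range k).image v) fun i _ => hcon i
      rw [h.inj.card_image] at this
      simp at this; omega)
  obtain ⟨i, hi, rfl⟩ := mem_image.1 hx
  rw [mem_range] at hi
  have hj : ∀ p < k, v p ≠ j := fun p hp e => hj' (mem_image.2 ⟨p, mem_range.2 hp, e⟩)
  rw [← aSymm T] at hxj
  have interior : ∀ {y : Fin n}, (∀ p < k, v p ≠ y) → ∀ l < k, T.a y (v l) ≠ 0 →
      1 ≤ l ∧ l + 1 < k := by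
    intro y hy l hl hay
    constructor
    · by_contra h0
      obtain rfl : l = 0 := by omega
      have := hmax _ _ (h.cons hy hay); omega
    · by_contra h0
      obtain rfl : l = k - 1 := by omega
      have := hmax _ _ (h.rev.cons (fun p hp => hy _ (by omega)) (by simpa using hay)); omega
  obtain ⟨hi1, hik⟩ := interior hj i hi hxj
  by_cases hm : ∃ e, e + 1 < k ∧ Multi T (v e) (v (e + 1))
  · obtain ⟨e, he, me⟩ := hm
    obtain ⟨-, h4, hB⟩ := branchMulti h two' (two j) hj hi1 hik he hxj me
    exact Classified.ofB h4 hB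
  push Not at hm
  by_cases hmj : Multi T j (v i)
  · obtain ⟨h4, hB⟩ := branchMultiOut h two' (two j) hj hi1 hik hxj hmj
    exact Classified.ofB h4.le hB
  by_cases hex : k + 1 < n
  · obtain ⟨x, hx, j', hj'', hxj'⟩ := exists_adj_of_ne_univ T (insert j ((range k).image v))
      (insert_nonempty _ _) (by
        by_contra hcon
        push Not at hcon
        have := card_le_card (s := (univ : Finset (Fin n))) fun i _ => hcon i
        have := card_insert_le j ((range k).image v)
        rw [h.inj.card_image] at this
        simp at *; omega)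
    simp only [mem_insert, mem_image, mem_range, not_or, not_exists, not_and] at hj'' hx
    obtain ⟨hjj, hj'v⟩ := hj''
    rw [← aSymm T] at hxj'
    rcases hx with rfl | ⟨l, hl, rfl⟩
    · -- the branch continues
      have hl2 : 2 ≤ i := by
        have hseg := (h.seg i (k - i) (by omega)).cons (j := x) (fun p hp => hj _ (by omega))
          (by simpa using hxj)
        have := hmax _ _ (hseg.cons (j := j') (fun p hp e => by
          unfold NT93.cons at e
          split_ifs at e
          · exact hjj e.symm
          · exact hj'v _ (by omega) e) (by simpa [NT93.cons] using hxj'))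
        omega
      have hr2 : i + 2 < k := by
        have hseg := ((h.seg 0 (i + 1) (by omega)).rev).cons (j := x)
          (fun p hp => hj _ (by omega)) (by simpa using hxj)
        have := hmax _ _ (hseg.cons (j := j') (fun p hp e => by
          unfold NT93.cons at e
          split_ifs at e
          · exact hjj e.symm
          · exact hj'v _ (by omega) e) (by simpa [NT93.cons] using hxj'))
        omega
      refine Classified.ofE6 (cfgE6 (v := fun p => if p ≤ 2 then v (i - 2 + p) else
        if p = 3 then v (i + 2) else if p = 4 then v (i + 1) else if p = 5 then j' else x) ?_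
        (fun p _ => two _) ?_)
      · intro p hp q hq e
        (try dsimp only at e)
        split_ifs at e <;>
          first
          | omega
          | exact absurd e (hj _ (by omega))
          | exact absurd e.symm (hj _ (by omega))
          | exact absurd e (hj'v _ (by omega))
          | exact absurd e.symm (hj'v _ (by omega))
          | exact absurd e hjj
          | exact absurd e.symm hjj
          | (have := h.inj _ (by omega) _ (by omega) e; omega)
      · intro p hp q hq hpq
        rcases hpq with ⟨rfl, rfl⟩ | ⟨rfl, rfl⟩ | ⟨rfl, rfl⟩ | ⟨rfl, rfl⟩ | ⟨rfl, rfl⟩ | ⟨rfl, rfl⟩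
        · simpa [show i - 2 + 1 = i - 1 by omega] using
            (show T.a (v (i - 2)) (v (i - 2 + 1)) ≠ 0 from h.adj _ (by omega))
        · simpa [show i - 2 + 1 + 1 = i - 2 + 2 by omega] using
            (show T.a (v (i - 2 + 1)) (v (i - 2 + 1 + 1)) ≠ 0 from h.adj _ (by omega))
        · simpa [show i - 2 + 2 = i by omega] using h.adj i hik
        · simp [show i - 2 + 2 = i by omega]; rwa [aSymm T]
        · rw [aSymm T]; simpa using h.adj (i + 1) (by omega)
        · simpa using hxj'
    · obtain ⟨hl1, hlk⟩ := interior hj'v l hl hxj'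
      rcases le_total i l with hil | hil
      · obtain ⟨e, hD⟩ := twoBranch h two' (two j) (two j') (Ne.symm hjj) hj hj'v hi1 hil hlk
          hxj hxj'
        exact Classified.ofD (by omega) hD
      · obtain ⟨e, hD⟩ := twoBranch h two' (two j') (two j) hjj hj'v hj hl1 hil hik hxj' hxj
        exact Classified.ofD (by omega) hD
  · have hn1 : n = k + 1 := by omega
    by_cases hjo : ∃ l, l < k ∧ l ≠ i ∧ T.a j (v l) ≠ 0
    · obtain ⟨l, hl, hli, hal⟩ := hjo
      have main : ∀ a b : ℕ, a < b → b < k → T.a j (v a) ≠ 0 → T.a j (v b) ≠ 0 →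
          Classified T := fun a b hab hb ha hb' => by
        have hp := (h.seg a (b + 1 - a) (by omega)).cons (j := j) (fun p hp => hj _ (by omega))
          (by simpa using ha)
        refine Classified.ofA (cycle hp (fun p _ => two _) (i := 0) (l := b + 1 - a) (by omega)
          (by omega) ?_).2
        simpa [NT93.cons, show b + 1 - a ≠ 0 by omega, show a + (b + 1 - a - 1) = b by omega]
          using hb'
      rcases Nat.lt_or_gt_of_ne hli with h' | h'
      · exact main l i h' hi hal hxj
      · exact main i l h' hl hxj hal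
    push Not at hjo
    have hs : ∀ e, e + 1 < k → T.a (v e) (v (e + 1)) = T.w (v e) ∧
        T.a (v e) (v (e + 1)) = T.w (v (e + 1)) := fun e he =>
      single_of_not_multi (h.inj.ne (by omega) he (by omega)) (h.adj e he) (hm e he)
    have hsj := single_of_not_multi (hj i hi).symm hxj hmj
    by_cases hiq : 2 * i + 1 ≤ k
    · exact tShape h two hn1 hj hi1 hik hiq hxj hc hjo hs hsj
    · refine tShape (i := k - 1 - i) h.rev two hn1 (fun p hp => hj _ (by omega)) (by omega)
        (by omega) (by omega) ?_ (fun p l h1 h3 => ?_) (fun l hl hli => ?_) (fun e he => ?_) ?_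
      · rwa [show k - 1 - (k - 1 - i) = i by omega]
      · rw [aSymm T]; exact hc _ _ (by omega) (by omega)
      · exact hjo _ (by omega) (by omega)
      · have := hs (k - 2 - e) (by omega)
        rw [show k - 1 - e = k - 2 - e + 1 by omega, show k - 1 - (e + 1) = k - 2 - e by omega,
          aSymm T]
        exact ⟨this.2, this.1⟩
      · simp only [show k - 1 - (k - 1 - i) = i by omega]; exact hsj

end Groth.Agent.NT93
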