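import Groth.Agent.NT93.Basic

namespace Groth.Agent.NT93

open Finset

variable {n : ℕ} (T : Models.NumericalType n)

/-- A path of pairwise distinct indices. -/
structure Path (k : ℕ) (v : ℕ → Fin n) : Prop where
  inj : Inj k v
  adj : ∀ p, p + 1 < k → T.a (v p) (v (p + 1)) ≠ 0

/-- An edge with at least one of the two ratios at least two. -/
def Multi (i j : Fin n) : Prop := 2 * T.w i ≤ T.a i j ∨ 2 * T.w j ≤ T.a i j

/-- Shape of a classified type. -/
def IsType (e : ℕ → ℕ → ℤ) (x wf : ℕ → ℤ) : Prop :=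
  ∃ (v : ℕ → Fin n) (m w : ℤ), Inj n v ∧ (∀ p < n, T.m (v p) = x p * m) ∧
    (∀ p < n, T.w (v p) = wf p * w) ∧ ∀ p q, p < q → q < n → T.a (v p) (v q) = e p q * w

variable {T}

theorem Multi.symm {i j : Fin n} (h : Multi T i j) : Multi T j i := by
  unfold Multi at *; rw [aSymm T i j]; exact h.symm

theorem Path.rev {k : ℕ} {v : ℕ → Fin n} (h : Path T k v) :
    Path T k (fun p => v (k - 1 - p)) := by
  refine ⟨fun p hp q hq e => ?_, fun p hp => ?_⟩
  · have := h.inj _ (by omega) _ (by omega) e; omega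
  · have h' := h.adj (k - 1 - (p + 1)) (by omega)
    rw [show k - 1 - (p + 1) + 1 = k - 1 - p by omega] at h'
    rwa [aSymm T] at h'

theorem Path.seg {k : ℕ} {v : ℕ → Fin n} (h : Path T k v) (i len : ℕ) (hle : i + len ≤ k) :
    Path T len (fun p => v (i + p)) := by
  refine ⟨fun p hp q hq e => ?_, fun p hp => ?_⟩
  · have := h.inj _ (by omega) _ (by omega) e; omega
  · exact h.adj (i + p) (by omega)

theorem Path.le_fwd {k : ℕ} {v : ℕ → Fin n} (h : Path T k v) {p : ℕ} (hp : p + 1 < k) :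
    T.w (v p) ≤ T.a (v p) (v (p + 1)) :=
  w_le_of_ne T (h.inj.ne (by omega) hp (by omega)) (h.adj p hp)

theorem Path.le_bwd {k : ℕ} {v : ℕ → Fin n} (h : Path T k v) {p : ℕ} (hp : p + 1 < k) :
    T.w (v (p + 1)) ≤ T.a (v p) (v (p + 1)) :=
  w_le_of_ne' T (h.inj.ne (by omega) hp (by omega)) (h.adj p hp)

theorem Aff.isType {k : ℕ} {v : ℕ → Fin n} {x0 : ℕ → ℤ} {S : ℕ → Finset ℕ} (A : Aff T k v x0 S)
    {e : ℕ → ℕ → ℤ} {x wf : ℕ → ℤ} (m w : ℤ) (hm : ∀ p < k, T.m (v p) = x p * m)
    (hw : ∀ p < k, T.w (v p) = wf p * w)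
    (hedge : ∀ p q, p < q → q < k → q ∈ S p → T.a (v p) (v q) = e p q * w)
    (hnon : ∀ p q, p < q → q < k → q ∉ S p → e p q = 0) : IsType T e x wf := by
  have hk := A.card
  have hinj : Inj n v := fun p hp q hq => A.inj p (by omega) q (by omega)
  refine ⟨v, m, w, hinj, fun p hp => hm p (by omega), fun p hp => hw p (by omega),
    fun p q hpq hq => ?_⟩
  by_cases h : q ∈ S p
  · exact hedge p q hpq (by omega) h
  · rw [A.off p (by omega) q (by omega) h (by omega), hnon p q hpq (by omega) h, zero_mul]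

/-- Balanced configurations: all edges are simple. -/
theorem affineSL {k : ℕ} {v : ℕ → Fin n} {x : ℕ → ℤ} {S : ℕ → Finset ℕ} (hk : 0 < k)
    (inj : Inj k v) (two : ∀ p < k, Two T (v p)) (hx : ∀ p < k, 0 < x p)
    (hS : ∀ p < k, ∀ q ∈ S p, q < k ∧ q ≠ p)
    (adj : ∀ p < k, ∀ q ∈ S p, T.a (v p) (v q) ≠ 0)
    (bal : ∀ p < k, ∑ q ∈ S p, x q = 2 * x p) :
    Aff T k v x S ∧ ∀ p < k, ∀ q ∈ S p, T.a (v p) (v q) = T.w (v p) := by
  have hle : ∀ p < k, ∀ q ∈ S p, T.w (v p) * x q ≤ T.a (v p) (v q) * x q := fun p hp q hq => by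
    refine mul_le_mul_of_nonneg_right ?_ (hx q (hS p hp q hq).1).le
    exact w_le_of_ne T (inj.ne hp (hS p hp q hq).1 (Ne.symm (hS p hp q hq).2)) (adj p hp q hq)
  have hsum : ∀ p < k, ∑ q ∈ S p, T.w (v p) * x q = 2 * T.w (v p) * x p := fun p hp => by
    rw [← mul_sum, bal p hp]; ring
  have A := affine hk inj two hx hS fun p hp => by
    rw [← hsum p hp]; exact sum_le_sum (hle p hp)
  refine ⟨A, fun p hp q hq => ?_⟩
  have := (sum_eq_sum_iff_of_le (hle p hp)).1 ((hsum p hp).trans (A.row p hp).symm) q hq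
  exact (mul_right_cancel₀ (ne_of_gt (hx q (hS p hp q hq).1)) this).symm

theorem Aff.m_eq {k : ℕ} {v : ℕ → Fin n} {x : ℕ → ℤ} {S : ℕ → Finset ℕ} (A : Aff T k v x S)
    {r : ℕ} (hr : r < k) (hxr : x r = 1) (p : ℕ) (hp : p < k) :
    T.m (v p) = x p * T.m (v r) := by
  have := A.prop p hp r hr
  rw [hxr] at this; linarith

/-- Neighbours in a graph on `range k` given by a relation. -/
def nb (k : ℕ) (E : ℕ → ℕ → Prop) [DecidableRel E] (p : ℕ) : Finset ℕ :=
  (range k).filter fun q => E p q ∨ E q p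

theorem mem_nb {k : ℕ} {E : ℕ → ℕ → Prop} [DecidableRel E] {p q : ℕ} :
    q ∈ nb k E p ↔ q < k ∧ (E p q ∨ E q p) := by simp [nb]

/-- Edges of a chain. -/
abbrev cE (p q : ℕ) : Prop := q = p + 1
/-- Edges of a cycle. -/
abbrev aE (k p q : ℕ) : Prop := q = p + 1 ∨ (p = 0 ∧ q + 1 = k)
/-- Edges of a chain forking at the right end. -/
abbrev bE (k p q : ℕ) : Prop := (q = p + 1 ∧ q + 2 ≤ k) ∨ (p + 3 = k ∧ q + 1 = k)
/-- Edges of a chain forking at both ends. -/
abbrev dE (k p q : ℕ) : Prop :=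
  (p = 0 ∧ q = 2) ∨ (p = 1 ∧ q = 2) ∨ (q = p + 1 ∧ 2 ≤ p ∧ q + 2 ≤ k) ∨ (p + 3 = k ∧ q + 1 = k)

def eA (n p q : ℕ) : ℤ := if q = p + 1 ∨ (p = 0 ∧ q + 1 = n) then 1 else 0
def eBC (n p q : ℕ) : ℤ := if q = p + 1 then (if q + 1 < n then 2 else 4) else 0
def xBC (n p : ℕ) : ℤ := if p + 1 < n then 2 else 1
def wBC (n p : ℕ) : ℤ := if p = 0 then 1 else if p + 1 < n then 2 else 4
def eC1 (p q : ℕ) : ℤ := if q = p + 1 then 2 else 0
def wC1 (n p : ℕ) : ℤ := if p = 0 ∨ p + 1 = n then 1 else 2
def eC2 (n p q : ℕ) : ℤ := if q = p + 1 then (if p = 0 ∨ q + 1 = n then 2 else 1) else 0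
def xC2 (n p : ℕ) : ℤ := if p = 0 ∨ p + 1 = n then 1 else 2
def wC2 (n p : ℕ) : ℤ := if p = 0 ∨ p + 1 = n then 2 else 1
def eB1 (n p q : ℕ) : ℤ := if bE n p q then (if p = 0 then 2 else 1) else 0
def xB1 (n p : ℕ) : ℤ := if p = 0 ∨ n ≤ p + 2 then 1 else 2
def wB1 (p : ℕ) : ℤ := if p = 0 then 2 else 1
def eB2 (n p q : ℕ) : ℤ := if bE n p q then 2 else 0
def xB2 (n p : ℕ) : ℤ := if p + 2 < n then 2 else 1
def wB2 (p : ℕ) : ℤ := if p = 0 then 1 else 2
def eD (n p q : ℕ) : ℤ := if dE n p q then 1 else 0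
def xD (n p : ℕ) : ℤ := if p ≤ 1 ∨ n ≤ p + 2 then 1 else 2
def one (_ : ℕ) : ℤ := 1

theorem cfgA {k : ℕ} {v : ℕ → Fin n} (hk : 3 ≤ k) (h : Path T k v) (two : ∀ p < k, Two T (v p))
    (hc : T.a (v 0) (v (k - 1)) ≠ 0) : k = n ∧ IsType T (eA n) one one := by
  have adj : ∀ p < k, ∀ q ∈ nb k (aE k) p, T.a (v p) (v q) ≠ 0 := by
    intro p hp q hq
    simp only [mem_nb] at hq
    obtain ⟨hq, (rfl | ⟨rfl, h'⟩) | (rfl | ⟨rfl, h'⟩)⟩ := hq
    · exact h.adj p hq
    · rwa [show q = k - 1 by omega]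
    · rw [aSymm T]; exact h.adj q hp
    · rw [show p = k - 1 by omega, aSymm T]; exact hc
  have bal : ∀ p < k, ∑ q ∈ nb k (aE k) p, one q = 2 * one p := by
    intro p hp
    rcases Nat.eq_zero_or_pos p with rfl | hp0
    · rw [show nb k (aE k) 0 = {1, k - 1} by ext q; simp [mem_nb]; omega,
        sum_pair (by omega)]; simp [one]
    · by_cases hpl : p + 1 = k
      · rw [show nb k (aE k) p = {0, p - 1} by ext q; simp [mem_nb]; omega,
          sum_pair (by omega)]; simp [one]
      · rw [show nb k (aE k) p = {p - 1, p + 1} by ext q; simp [mem_nb]; omega,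
          sum_pair (by omega)]; simp [one]
  obtain ⟨A, he⟩ := affineSL (x := one) (S := nb k (aE k)) (T := T) (v := v) (by omega) h.inj two
    (fun _ _ => by simp [one]) (fun p hp q hq => by simp only [mem_nb] at hq; omega) adj bal
  have hkn := A.card
  refine ⟨hkn, A.isType (T.m (v 0)) (T.w (v 0)) (fun p hp => A.m_eq (by omega) rfl p hp) ?_ ?_ ?_⟩
  · intro p
    induction p with
    | zero => simp [one]
    | succ p ih =>
      intro hp
      have h1 := he p (by omega) (p + 1) (mem_nb.2 ⟨hp, Or.inl (Or.inl rfl)⟩)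
      have h2 := he (p + 1) hp p (mem_nb.2 ⟨by omega, Or.inr (Or.inl rfl)⟩)
      rw [aSymm T, h1] at h2
      rw [← h2, ih (by omega)]; simp [one]
  · intro p q hpq hq hmem
    have hw0 : ∀ p < k, T.w (v p) = T.w (v 0) := by
      intro p
      induction p with
      | zero => simp
      | succ p ih =>
        intro hp
        have h1 := he p (by omega) (p + 1) (mem_nb.2 ⟨hp, Or.inl (Or.inl rfl)⟩)
        have h2 := he (p + 1) hp p (mem_nb.2 ⟨by omega, Or.inr (Or.inl rfl)⟩)
        rw [aSymm T, h1] at h2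
        rw [← h2, ih (by omega)]
    rw [he p (by omega) q hmem, hw0 p (by omega)]
    simp only [mem_nb] at hmem
    simp only [eA]; rw [if_pos (by omega)]; simp
  · intro p q hpq hq hmem
    simp only [mem_nb] at hmem
    simp only [eA]; rw [if_neg (by omega)]

theorem cfgC_aux {k : ℕ} {v : ℕ → Fin n} (hk : 3 ≤ k) (h : Path T k v) (two : ∀ p < k, Two T (v p))
    (h0 : Multi T (v 0) (v 1)) (hl : Multi T (v (k - 2)) (v (k - 1)))
    (hside : 2 * T.w (v 1) ≤ T.a (v 0) (v 1) →
      2 * T.w (v (k - 2)) ≤ T.a (v (k - 2)) (v (k - 1))) :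
    k = n ∧ (IsType T (eBC n) (xBC n) (wBC n) ∨ IsType T eC1 one (wC1 n) ∨
      IsType T (eC2 n) (xC2 n) (wC2 n)) := by
  classical
  set s := if 2 * T.w (v 1) ≤ T.a (v 0) (v 1) then (1 : ℤ) else 2 with hs
  set t := if 2 * T.w (v (k - 2)) ≤ T.a (v (k - 2)) (v (k - 1)) then (1 : ℤ) else 2 with ht
  set x : ℕ → ℤ := fun p => if p = 0 then s else if p + 1 = k then t else 2 with hx
  have hs0 : 0 < s := by rw [hs]; split_ifs <;> norm_num
  have ht0 : 0 < t := by rw [ht]; split_ifs <;> norm_num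
  have hxi : ∀ p, 0 < p → p + 1 < k → x p = 2 := fun p h1 h2 => by
    simp only [hx]; rw [if_neg (by omega), if_neg (by omega)]
  have hxs : x 0 = s := by simp [hx]
  have hxt : x (k - 1) = t := by simp only [hx]; rw [if_neg (by omega), if_pos (by omega)]
  have hw0 := T.w_pos (v 0)
  have hw1 := T.w_pos (v 1)
  have hends : T.w (v 0) * s ≤ T.a (v 0) (v 1) ∧
      2 * T.w (v 1) ≤ T.a (v 0) (v 1) * s := by
    have e1 : T.w (v 1) ≤ T.a (v 0) (v 1) := h.le_bwd (p := 0) (by omega)
    have e2 : T.w (v 0) ≤ T.a (v 0) (v 1) := h.le_fwd (p := 0) (by omega)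
    rw [hs]
    split_ifs with hc
    · constructor <;> linarith
    · have := h0.resolve_right hc
      constructor <;> linarith
  have hendt : T.w (v (k - 1)) * t ≤ T.a (v (k - 2)) (v (k - 1)) ∧
      2 * T.w (v (k - 2)) ≤ T.a (v (k - 2)) (v (k - 1)) * t := by
    have e1 := h.le_bwd (p := k - 2) (by omega)
    have e2 := h.le_fwd (p := k - 2) (by omega)
    rw [show k - 2 + 1 = k - 1 by omega] at e1 e2
    rw [ht]
    split_ifs with hc
    · constructor <;> linarith
    · have := hl.resolve_left hc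
      constructor <;> linarith
  have hL : ∀ p, 0 < p → p + 1 < k → 2 * T.w (v p) ≤ T.a (v p) (v (p - 1)) * x (p - 1) := by
    intro p h1 h2
    rw [aSymm T]
    by_cases hp : p = 1
    · subst hp; rw [hxs]; exact hends.2
    · rw [hxi (p - 1) (by omega) (by omega)]
      have := h.le_bwd (p := p - 1) (by omega)
      rw [show p - 1 + 1 = p by omega] at this; linarith
  have hR : ∀ p, 0 < p → p + 1 < k → 2 * T.w (v p) ≤ T.a (v p) (v (p + 1)) * x (p + 1) := by
    intro p h1 h2
    by_cases hp : p + 2 = k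
    · obtain rfl : p = k - 2 := by omega
      rw [show k - 2 + 1 = k - 1 by omega, hxt]; exact hendt.2
    · rw [hxi (p + 1) (by omega) (by omega)]
      have := h.le_fwd (p := p) (by omega); linarith
  have hS0 : nb k cE 0 = {1} := by ext q; simp [mem_nb]; omega
  have hSl : ∀ p, p + 1 = k → nb k cE p = {p - 1} := fun p hp => by ext q; simp [mem_nb]; omega
  have hSi : ∀ p, 0 < p → p + 1 < k → nb k cE p = {p - 1, p + 1} := fun p h1 h2 => by
    ext q; simp [mem_nb]; omega
  have A : Aff T k v x (nb k cE) := affine (by omega) h.inj two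
    (fun p hp => by simp only [hx]; split_ifs <;> omega)
    (fun p hp q hq => by simp only [mem_nb] at hq; omega)
    (fun p hp => by
      rcases Nat.eq_zero_or_pos p with rfl | hp0
      · rw [hS0, sum_singleton, hxs, hxi 1 one_pos (by omega)]; linarith [hends.1]
      · by_cases hpl : p + 1 = k
        · obtain rfl : p = k - 1 := by omega
          rw [hSl _ hpl, sum_singleton, hxt, show k - 1 - 1 = k - 2 by omega,
            hxi (k - 2) (by omega) (by omega), aSymm T]
          linarith [hendt.1]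
        · rw [hSi p hp0 (by omega), sum_pair (by omega), hxi p hp0 (by omega)]
          linarith [hL p hp0 (by omega), hR p hp0 (by omega)])
  have hrow0 : T.a (v 0) (v 1) = T.w (v 0) * s := by
    have := A.row 0 (by omega)
    rw [hS0, sum_singleton, hxs, hxi 1 one_pos (by omega)] at this; linarith
  have hrowl : T.a (v (k - 2)) (v (k - 1)) = T.w (v (k - 1)) * t := by
    have := A.row (k - 1) (by omega)
    rw [hSl _ (by omega), sum_singleton, hxt, show k - 1 - 1 = k - 2 by omega,
      hxi (k - 2) (by omega) (by omega), aSymm T] at this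
    linarith
  have hboth : ∀ p, 0 < p → p + 1 < k →
      T.a (v p) (v (p - 1)) * x (p - 1) = 2 * T.w (v p) ∧
      T.a (v p) (v (p + 1)) * x (p + 1) = 2 * T.w (v p) := fun p h1 h2 => by
    have := A.row p (by omega)
    rw [hSi p h1 h2, sum_pair (by omega), hxi p h1 h2] at this
    constructor <;> linarith [hL p h1 h2, hR p h1 h2]
  have hmid : ∀ p, 0 < p → p + 2 < k →
      T.a (v p) (v (p + 1)) = T.w (v p) ∧ T.w (v (p + 1)) = T.w (v p) := fun p h1 h2 => by
    have e1 := (hboth p h1 (by omega)).2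
    have e2 := (hboth (p + 1) (by omega) (by omega)).1
    rw [show p + 1 - 1 = p by omega, hxi p h1 (by omega), aSymm T] at e2
    rw [hxi (p + 1) (by omega) (by omega)] at e1
    constructor <;> linarith
  have hwi : ∀ p, 0 < p → p + 1 < k → T.w (v p) = T.w (v 1) := by
    intro p
    induction p with
    | zero => intro h1; omega
    | succ p ih =>
      intro _ h2
      rcases Nat.eq_zero_or_pos p with rfl | hp0
      · rfl
      · rw [(hmid p hp0 (by omega)).2, ih hp0 (by omega)]
  have hm0 : s * T.a (v 0) (v 1) = 2 * T.w (v 1) := by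
    have := (hboth 1 one_pos (by omega)).1
    rw [show 1 - 1 = 0 from rfl, hxs, aSymm T] at this; linarith
  have hml : t * T.a (v (k - 2)) (v (k - 1)) = 2 * T.w (v 1) := by
    have := (hboth (k - 2) (by omega) (by omega)).2
    rw [show k - 2 + 1 = k - 1 by omega, hxt, hwi (k - 2) (by omega) (by omega)] at this
    linarith
  have hkn := A.card
  refine ⟨hkn, ?_⟩
  have hedges : ∀ p q : ℕ, p < q → q ∈ nb k cE p → q = p + 1 := fun p q h1 h2 => by
    simp only [mem_nb] at h2; omega
  have hnedges : ∀ p q : ℕ, q < k → q ∉ nb k cE p → q ≠ p + 1 := fun p q h1 h2 => by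
    simp only [mem_nb] at h2; omega
  rcases (show s = 1 ∨ s = 2 by rw [hs]; split_ifs <;> simp) with hs1 | hs2
  · -- both ends long
    have ht1 : t = 1 := by
      rw [ht, if_pos (hside ?_)]
      by_contra hc
      rw [hs, if_neg hc] at hs1; norm_num at hs1
    refine Or.inr (Or.inr (A.isType (T.m (v 0)) (T.w (v 1)) (fun p hp => ?_) (fun p hp => ?_)
      (fun p q hpq hq hmem => ?_) fun p q hpq hq hmem => ?_))
    · rw [A.m_eq (r := 0) (by omega) (by rw [hxs, hs1]) p hp]
      congr 1; simp only [hx, xC2, ← hkn, hs1, ht1]; split_ifs <;> omega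
    · simp only [wC2, ← hkn]
      split_ifs with hc
      · rcases hc with rfl | hc
        · linear_combination (-1 : ℤ) * hrow0 + hm0 +
            (-(T.a (v 0) (v 1)) - T.w (v 0)) * hs1
        · obtain rfl : p = k - 1 := by omega
          linear_combination (-1 : ℤ) * hrowl + hml +
            (-(T.a (v (k - 2)) (v (k - 1))) - T.w (v (k - 1))) * ht1
      · rw [hwi p (by omega) (by omega)]; ring
    · obtain rfl := hedges p q hpq hmem
      simp only [eC2, ← hkn, if_true]
      split_ifs with hc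
      · rcases hc with rfl | hc
        · rw [hs1] at hm0; linarith
        · obtain rfl : p = k - 2 := by omega
          rw [show k - 2 + 1 = k - 1 by omega]; rw [ht1] at hml; linarith
      · rw [(hmid p (by omega) (by omega)).1, hwi p (by omega) (by omega)]; ring
    · simp only [eC2]; rw [if_neg (hnedges p q hq hmem)]
  · rcases (show t = 1 ∨ t = 2 by rw [ht]; split_ifs <;> simp) with ht1 | ht2
    · refine Or.inl (A.isType (T.m (v (k - 1))) (T.w (v 0)) (fun p hp => ?_) (fun p hp => ?_)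
        (fun p q hpq hq hmem => ?_) fun p q hpq hq hmem => ?_)
      · rw [A.m_eq (r := k - 1) (by omega) (by rw [hxt, ht1]) p hp]
        congr 1; simp only [hx, xBC, ← hkn, hs2, ht1]; split_ifs <;> omega
      · rw [hs2] at hrow0 hm0; rw [ht1] at hrowl hml
        simp only [wBC, ← hkn]
        split_ifs with hc hc'
        · subst hc; ring
        · rw [hwi p (by omega) (by omega)]; linarith
        · obtain rfl : p = k - 1 := by omega
          linarith
      · rw [hs2] at hrow0 hm0; rw [ht1] at hrowl hml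
        obtain rfl := hedges p q hpq hmem
        simp only [eBC, ← hkn, if_true]
        split_ifs with hc
        · rcases Nat.eq_zero_or_pos p with rfl | hp0
          · linarith
          · rw [(hmid p hp0 (by omega)).1, hwi p hp0 (by omega)]; linarith
        · obtain rfl : p = k - 2 := by omega
          rw [show k - 2 + 1 = k - 1 by omega]; linarith
      · simp only [eBC]; rw [if_neg (hnedges p q hq hmem)]
    · refine Or.inr (Or.inl (A.isType (T.m (v 0)) (T.w (v 0)) (fun p hp => ?_) (fun p hp => ?_)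
        (fun p q hpq hq hmem => ?_) fun p q hpq hq hmem => ?_))
      · have := A.prop p hp 0 (by omega)
        rw [hxs, hs2, show x p = 2 by simp only [hx, hs2, ht2]; split_ifs <;> rfl] at this
        simp only [one]; linarith
      · rw [hs2] at hrow0 hm0; rw [ht2] at hrowl hml
        simp only [wC1, ← hkn]
        split_ifs with hc
        · rcases hc with rfl | hc
          · ring
          · obtain rfl : p = k - 1 := by omega
            linarith
        · rw [hwi p (by omega) (by omega)]; linarith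
      · rw [hs2] at hrow0 hm0; rw [ht2] at hrowl hml
        obtain rfl := hedges p q hpq hmem
        simp only [eC1, if_true]
        rcases Nat.eq_zero_or_pos p with rfl | hp0
        · linarith
        · by_cases hpl : p + 2 = k
          · obtain rfl : p = k - 2 := by omega
            rw [show k - 2 + 1 = k - 1 by omega]; linarith
          · rw [(hmid p hp0 (by omega)).1, hwi p hp0 (by omega)]; linarith
      · simp only [eC1]; rw [if_neg (hnedges p q hq hmem)]

theorem cfgC {k : ℕ} {v : ℕ → Fin n} (hk : 3 ≤ k) (h : Path T k v) (two : ∀ p < k, Two T (v p))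
    (h0 : Multi T (v 0) (v 1)) (hl : Multi T (v (k - 2)) (v (k - 1))) :
    k = n ∧ (IsType T (eBC n) (xBC n) (wBC n) ∨ IsType T eC1 one (wC1 n) ∨
      IsType T (eC2 n) (xC2 n) (wC2 n)) := by
  by_cases hside : 2 * T.w (v 1) ≤ T.a (v 0) (v 1) →
      2 * T.w (v (k - 2)) ≤ T.a (v (k - 2)) (v (k - 1))
  · exact cfgC_aux hk h two h0 hl hside
  · obtain ⟨-, hnot⟩ := Classical.not_imp.1 hside
    have e1 : k - 1 - (k - 2) = 1 := by omega
    have e2 : k - 1 - (k - 1) = 0 := by omega
    have e3 : k - 1 - 1 = k - 2 := by omega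
    refine cfgC_aux hk h.rev (fun p hp => two _ (by omega)) ?_ ?_ ?_
    · simp only [Nat.sub_zero, e3]; exact hl.symm
    · simp only [e1, e2]; exact h0.symm
    · simp only [Nat.sub_zero, e3]
      intro h'; rw [aSymm T] at h'; exact absurd h' hnot

end Groth.Agent.NT93
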