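import Groth.Agent.NT93.Configs

namespace Groth.Agent.NT93

open Finset

variable {n : ℕ} {T : Models.NumericalType n}

theorem cfgB {k : ℕ} {v : ℕ → Fin n} (hk : 4 ≤ k) (inj : Inj k v)
    (two : ∀ p < k, Two T (v p))
    (adj : ∀ p q, q < k → bE k p q → T.a (v p) (v q) ≠ 0)
    (h0 : Multi T (v 0) (v 1)) :
    k = n ∧ (IsType T (eB1 n) (xB1 n) wB1 ∨ IsType T (eB2 n) (xB2 n) wB2) := by
  classical
  set s := if 2 * T.w (v 1) ≤ T.a (v 0) (v 1) then (1 : ℤ) else 2 with hs
  set x : ℕ → ℤ := fun p => if p = 0 then s else if k ≤ p + 2 then 1 else 2 with hx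
  have hs0 : 0 < s := by rw [hs]; split_ifs <;> norm_num
  have hxs : x 0 = s := by simp [hx]
  have hxi : ∀ p, 0 < p → p + 2 < k → x p = 2 := fun p h1 h2 => by
    simp only [hx]; rw [if_neg (by omega), if_neg (by omega)]
  have hxe : ∀ p, 0 < p → k ≤ p + 2 → x p = 1 := fun p h1 h2 => by
    simp only [hx]; rw [if_neg (by omega), if_pos (by omega)]
  have lef : ∀ p q, q < k → bE k p q →
      T.w (v p) ≤ T.a (v p) (v q) ∧ T.w (v q) ≤ T.a (v p) (v q) := fun p q hq h =>
    ⟨w_le_of_ne T (inj.ne (by omega) hq (by omega)) (adj p q hq h),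
     w_le_of_ne' T (inj.ne (by omega) hq (by omega)) (adj p q hq h)⟩
  have hends : T.w (v 0) * s ≤ T.a (v 0) (v 1) ∧
      2 * T.w (v 1) ≤ T.a (v 0) (v 1) * s := by
    obtain ⟨e2, e1⟩ := lef 0 1 (by omega) (by omega)
    rw [hs]
    split_ifs with hc
    · constructor <;> linarith
    · have := h0.resolve_right hc
      constructor <;> linarith
  have hL : ∀ p, 0 < p → p + 2 < k → 2 * T.w (v p) ≤ T.a (v p) (v (p - 1)) * x (p - 1) := by
    intro p h1 h2
    rw [aSymm T]
    by_cases hp : p = 1
    · subst hp; rw [hxs]; exact hends.2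
    · rw [hxi (p - 1) (by omega) (by omega)]
      have := (lef (p - 1) p (by omega) (by omega)).2; linarith
  have hS0 : nb k (bE k) 0 = {1} := by ext q; simp [mem_nb]; omega
  have hSl : ∀ p, p < k → k ≤ p + 2 → nb k (bE k) p = {k - 3} := fun p hp h => by
    ext q; simp [mem_nb]; omega
  have hSh : ∀ p, p + 3 = k → nb k (bE k) p = {p - 1, p + 1, p + 2} := fun p hp => by
    ext q; simp [mem_nb]; omega
  have hSi : ∀ p, 0 < p → p + 3 < k → nb k (bE k) p = {p - 1, p + 1} := fun p h1 h2 => by
    ext q; simp [mem_nb]; omega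
  have hsum3 : ∀ (p : ℕ) (f : ℕ → ℤ), 0 < p →
      ∑ q ∈ ({p - 1, p + 1, p + 2} : Finset ℕ), f q = f (p - 1) + f (p + 1) + f (p + 2) := by
    intro p f hp
    rw [sum_insert (by simp; omega), sum_pair (by omega)]; ring
  have A : Aff T k v x (nb k (bE k)) := affine (by omega) inj two
    (fun p hp => by simp only [hx]; split_ifs <;> omega)
    (fun p hp q hq => by simp only [mem_nb] at hq; omega)
    (fun p hp => by
      rcases Nat.eq_zero_or_pos p with rfl | hp0
      · rw [hS0, sum_singleton, hxs, hxi 1 one_pos (by omega)]; linarith [hends.1]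
      · by_cases hpl : k ≤ p + 2
        · rw [hSl p hp hpl, sum_singleton, hxe p hp0 hpl, hxi (k - 3) (by omega) (by omega),
            aSymm T]
          have := (lef (k - 3) p hp (by omega)).2; linarith
        · by_cases hph : p + 3 = k
          · rw [hSh p hph, hsum3 p _ hp0, hxi p hp0 (by omega),
              hxe (p + 1) (by omega) (by omega), hxe (p + 2) (by omega) (by omega)]
            have e1 := (lef p (p + 1) (by omega) (by omega)).1
            have e2 := (lef p (p + 2) (by omega) (by omega)).1
            linarith [hL p hp0 (by omega)]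
          · rw [hSi p hp0 (by omega), sum_pair (by omega), hxi p hp0 (by omega),
              hxi (p + 1) (by omega) (by omega)]
            have e1 := (lef p (p + 1) (by omega) (by omega)).1
            linarith [hL p hp0 (by omega)])
  have hrow0 : T.a (v 0) (v 1) = T.w (v 0) * s := by
    have := A.row 0 (by omega)
    rw [hS0, sum_singleton, hxs, hxi 1 one_pos (by omega)] at this; linarith
  have hleaf : ∀ p, p < k → k ≤ p + 2 → T.a (v (k - 3)) (v p) = T.w (v p) := fun p hp hpl => by
    have := A.row p hp
    rw [hSl p hp hpl, sum_singleton, hxe p (by omega) hpl, hxi (k - 3) (by omega) (by omega),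
      aSymm T] at this
    linarith
  have hmid : ∀ p, 0 < p → p + 2 < k →
      T.a (v p) (v (p - 1)) * x (p - 1) = 2 * T.w (v p) ∧
      (∀ q, q < k → bE k p q → T.a (v p) (v q) = T.w (v p)) := fun p h1 h2 => by
    have hr := A.row p (by omega)
    by_cases hph : p + 3 = k
    · rw [hSh p hph, hsum3 p _ h1, hxi p h1 h2,
        hxe (p + 1) (by omega) (by omega), hxe (p + 2) (by omega) (by omega)] at hr
      have e1 := (lef p (p + 1) (by omega) (by omega)).1
      have e2 := (lef p (p + 2) (by omega) (by omega)).1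
      have e3 := hL p h1 h2
      refine ⟨by linarith, fun q hq hb => ?_⟩
      rcases (show q = p + 1 ∨ q = p + 2 by omega) with rfl | rfl <;> linarith
    · rw [hSi p h1 (by omega), sum_pair (by omega), hxi p h1 h2,
        hxi (p + 1) (by omega) (by omega)] at hr
      have e1 := (lef p (p + 1) (by omega) (by omega)).1
      have e3 := hL p h1 h2
      refine ⟨by linarith, fun q hq hb => ?_⟩
      obtain rfl : q = p + 1 := by omega
      linarith
  have hwi : ∀ p, 0 < p → p + 2 < k → T.w (v p) = T.w (v 1) := by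
    intro p
    induction p with
    | zero => intro h1; omega
    | succ p ih =>
      intro _ h2
      rcases Nat.eq_zero_or_pos p with rfl | hp0
      · rfl
      · have e1 := (hmid p hp0 (by omega)).2 (p + 1) (by omega) (by omega)
        have e2 := (hmid (p + 1) (by omega) h2).1
        rw [show p + 1 - 1 = p by omega, hxi p hp0 (by omega), aSymm T] at e2
        rw [← ih hp0 (by omega)]; linarith
  have hwl : ∀ p, p < k → k ≤ p + 2 → T.w (v p) = T.w (v 1) := fun p hp hpl => by
    have e1 := (hmid (k - 3) (by omega) (by omega)).2 p hp (by omega)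
    rw [← hleaf p hp hpl, e1, hwi (k - 3) (by omega) (by omega)]
  have hw : ∀ p, 0 < p → p < k → T.w (v p) = T.w (v 1) := fun p h1 h2 => by
    by_cases hpl : k ≤ p + 2
    · exact hwl p h2 hpl
    · exact hwi p h1 (by omega)
  have hm0 : s * T.a (v 0) (v 1) = 2 * T.w (v 1) := by
    have := (hmid 1 one_pos (by omega)).1
    rw [show 1 - 1 = 0 from rfl, hxs, aSymm T] at this; linarith
  have hkn := A.card
  refine ⟨hkn, ?_⟩
  have hedges : ∀ p q : ℕ, p < q → q ∈ nb k (bE k) p → bE k p q := fun p q h1 h2 => by
    simp only [mem_nb] at h2; omega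
  have hnedges : ∀ p q : ℕ, q < k → q ∉ nb k (bE k) p → ¬ bE k p q := fun p q h1 h2 h3 =>
    h2 (mem_nb.2 ⟨h1, Or.inl h3⟩)
  rcases (show s = 1 ∨ s = 2 by rw [hs]; split_ifs <;> simp) with hs1 | hs2
  · rw [hs1] at hrow0 hm0
    refine Or.inl (A.isType (T.m (v 0)) (T.w (v 1)) (fun p hp => ?_) (fun p hp => ?_)
      (fun p q hpq hq hmem => ?_) fun p q hpq hq hmem => ?_)
    · rw [A.m_eq (r := 0) (by omega) (by rw [hxs, hs1]) p hp]
      congr 1; simp only [hx, xB1, ← hkn, hs1]; split_ifs <;> omega
    · simp only [wB1]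
      split_ifs with hc
      · subst hc; linarith
      · rw [hw p (by omega) hp]; ring
    · simp only [eB1, ← hkn]; rw [if_pos (hedges p q hpq hmem)]
      split_ifs with hc
      · subst hc
        obtain rfl : q = 1 := by have := hedges 0 q hpq hmem; omega
        linarith
      · have hb := hedges p q hpq hmem
        rw [(hmid p (by omega) (by omega)).2 q hq hb, hw p (by omega) (by omega)]; ring
    · simp only [eB1, ← hkn]; rw [if_neg (hnedges p q hq hmem)]
  · rw [hs2] at hrow0 hm0
    refine Or.inr (A.isType (T.m (v (k - 1))) (T.w (v 0)) (fun p hp => ?_) (fun p hp => ?_)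
      (fun p q hpq hq hmem => ?_) fun p q hpq hq hmem => ?_)
    · rw [A.m_eq (r := k - 1) (by omega) (hxe (k - 1) (by omega) (by omega)) p hp]
      congr 1; simp only [hx, xB2, ← hkn, hs2]; split_ifs <;> omega
    · simp only [wB2]
      split_ifs with hc
      · subst hc; ring
      · rw [hw p (by omega) hp]; linarith
    · simp only [eB2, ← hkn]; rw [if_pos (hedges p q hpq hmem)]
      rcases Nat.eq_zero_or_pos p with rfl | hp0
      · obtain rfl : q = 1 := by have := hedges 0 q hpq hmem; omega
        linarith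
      · have hb := hedges p q hpq hmem
        rw [(hmid p hp0 (by omega)).2 q hq hb, hw p hp0 (by omega)]; linarith
    · simp only [eB2, ← hkn]; rw [if_neg (hnedges p q hq hmem)]

theorem cfgD {k : ℕ} {v : ℕ → Fin n} (hk : 5 ≤ k) (inj : Inj k v)
    (two : ∀ p < k, Two T (v p))
    (adj : ∀ p q, q < k → dE k p q → T.a (v p) (v q) ≠ 0) :
    k = n ∧ IsType T (eD n) (xD n) one := by
  have bal : ∀ p < k, ∑ q ∈ nb k (dE k) p, xD k q = 2 * xD k p := by
    intro p hp
    by_cases h1 : p ≤ 1
    · rw [show nb k (dE k) p = {2} by ext q; simp [mem_nb]; omega, sum_singleton]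
      simp only [xD]; split_ifs <;> omega
    · by_cases h2 : k ≤ p + 2
      · rw [show nb k (dE k) p = {k - 3} by ext q; simp [mem_nb]; omega, sum_singleton]
        simp only [xD]; split_ifs <;> omega
      · by_cases h3 : p = 2
        · subst h3
          by_cases h4 : k = 5
          · subst h4
            rw [show nb 5 (dE 5) 2 = {0, 1, 3, 4} by ext q; simp [mem_nb]; omega]
            norm_num [xD]
          · rw [show nb k (dE k) 2 = {0, 1, 3} by ext q; simp [mem_nb]; omega,
              sum_insert (by simp), sum_pair (by omega)]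
            simp only [xD]; split_ifs <;> omega
        · by_cases h4 : p + 3 = k
          · rw [show nb k (dE k) p = {p - 1, p + 1, p + 2} by ext q; simp [mem_nb]; omega,
              sum_insert (by simp; omega), sum_pair (by omega)]
            simp only [xD]; split_ifs <;> omega
          · rw [show nb k (dE k) p = {p - 1, p + 1} by ext q; simp [mem_nb]; omega,
              sum_pair (by omega)]
            simp only [xD]; split_ifs <;> omega
  obtain ⟨A, he⟩ := affineSL (x := xD k) (S := nb k (dE k)) (T := T) (v := v) (by omega) inj two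
    (fun p _ => by simp only [xD]; split_ifs <;> omega)
    (fun p hp q hq => by simp only [mem_nb] at hq; omega)
    (fun p hp q hq => by
      simp only [mem_nb] at hq
      rcases hq.2 with h | h
      · exact adj p q hq.1 h
      · rw [aSymm T]; exact adj q p hp h) bal
  have hkn := A.card
  have hst : ∀ p q, p < k → q < k → dE k p q → T.w (v p) = T.w (v q) := fun p q hp hq h => by
    rw [← he p hp q (mem_nb.2 ⟨hq, Or.inl h⟩), ← he q hq p (mem_nb.2 ⟨hp, Or.inr h⟩), aSymm T]
  have hmid : ∀ p, 2 ≤ p → p + 2 ≤ k → T.w (v p) = T.w (v 0) := by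
    intro p
    induction p with
    | zero => intro h; omega
    | succ p ih =>
      intro h1 h2
      rcases Nat.lt_or_ge p 2 with hp | hp
      · obtain rfl : p = 1 := by omega
        exact (hst 0 2 (by omega) (by omega) (by omega)).symm
      · rw [← hst p (p + 1) (by omega) (by omega) (by omega), ih hp (by omega)]
  have hw : ∀ p < k, T.w (v p) = T.w (v 0) := fun p hp => by
    rcases (show p = 0 ∨ p = 1 ∨ (2 ≤ p ∧ p + 2 ≤ k) ∨ p + 1 = k by omega) with
      rfl | rfl | ⟨h1, h2⟩ | h
    · rfl
    · rw [hst 1 2 hp (by omega) (by omega), hmid 2 le_rfl (by omega)]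
    · exact hmid p h1 h2
    · rw [← hst (k - 3) p (by omega) hp (by omega), hmid (k - 3) (by omega) (by omega)]
  refine ⟨hkn, A.isType (T.m (v 0)) (T.w (v 0)) (fun p hp => ?_) (fun p hp => ?_)
    (fun p q hpq hq hmem => ?_) fun p q hpq hq hmem => ?_⟩
  · rw [A.m_eq (r := 0) (by omega) (by simp [xD]) p hp, hkn]
  · rw [hw p hp]; simp [one]
  · rw [he p (by omega) q hmem, hw p (by omega)]
    simp only [mem_nb] at hmem
    simp only [eD, ← hkn]; rw [if_pos (by omega), one_mul]
  · simp only [eD, ← hkn]; rw [if_neg fun h => hmem (mem_nb.2 ⟨hq, Or.inl h⟩)]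

end Groth.Agent.NT93
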