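import Groth.Agent.NT93.Classify2

namespace Groth.Agent.NT93

open Finset

variable {n : ℕ} {T : Models.NumericalType n}

/-- Turn a shape into a permutation with all entries determined. -/
theorem IsType.perm {e : ℕ → ℕ → ℤ} {x wf : ℕ → ℤ} (h : IsType T e x wf)
    (τ : Equiv.Perm (Fin n)) :
    ∃ (σ : Equiv.Perm (Fin n)) (m w : ℤ), (∀ i, T.m (σ i) = x (τ i) * m) ∧
      (∀ i, T.w (σ i) = wf (τ i) * w) ∧
      ∀ i j : Fin n, i ≠ j →
        T.a (σ i) (σ j) = (if (τ i).val < (τ j).val then e (τ i) (τ j) else e (τ j) (τ i)) * w := by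
  obtain ⟨v, m, w, inj, hm, hw, he⟩ := h
  have hb : Function.Bijective (fun i : Fin n => v i) :=
    Finite.injective_iff_bijective.1 fun a b e => Fin.ext (inj _ a.isLt _ b.isLt e)
  refine ⟨τ.trans (Equiv.ofBijective _ hb), m, w, fun i => hm _ (τ i).isLt,
    fun i => hw _ (τ i).isLt, fun i j hij => ?_⟩
  show T.a (v (τ i)) (v (τ j)) = _
  have : (τ i).val ≠ (τ j).val := fun e => hij (τ.injective (Fin.ext e))
  split_ifs with h
  · exact he _ _ h (τ j).isLt
  · rw [aSymm T]; exact he _ _ (by omega) (τ i).isLt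

theorem IsType.ordered {e : ℕ → ℕ → ℤ} {x wf : ℕ → ℤ} (h : IsType T e x wf) :
    ∃ (σ : Equiv.Perm (Fin n)) (m w : ℤ), (∀ i : Fin n, T.m (σ i) = x i * m) ∧
      (∀ i : Fin n, T.w (σ i) = wf i * w) ∧
      ∀ i j : Fin n, i.val < j.val → T.a (σ i) (σ j) = e i j * w := by
  obtain ⟨σ, m, w, hm, hw, he⟩ := h.perm (Equiv.refl _)
  refine ⟨σ, m, w, hm, hw, fun i j hij => ?_⟩
  rw [he i j (fun e => by rw [e] at hij; omega)]
  exact congrArg (· * w) (if_pos hij)

theorem genusOne (hn : 3 ≤ n) (hmin : T.IsMinimal) (hg : T.genus = 1) :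
    (∀ i, T.g i = 0) ∧ (∀ i, T.a i i = -2 * T.w i) ∧ Classified T :=
  have h := allMinusTwo (by omega) hmin hg
  ⟨fun i => (h i).1, fun i => (h i).2, classify hn fun i => (h i).2⟩

end Groth.Agent.NT93
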