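import Groth.Agent.NT93.Configs2
import Groth.Agent.NT93.Configs3

namespace Groth.Agent.NT93

open Finset

variable {n : ℕ} {T : Models.NumericalType n}

theorem single_of_not_multi {i j : Fin n} (hij : i ≠ j) (h : T.a i j ≠ 0) (hm : ¬ Multi T i j) :
    T.a i j = T.w i ∧ T.a i j = T.w j := by
  simp only [Multi, not_or, not_le] at hm
  obtain ⟨c, hc⟩ := T.w_dvd i j
  obtain ⟨d, hd⟩ := T.w_dvd j i
  rw [aSymm T] at hd
  have hp := pos_of_ne T hij h
  have hwi := T.w_pos i
  have hwj := T.w_pos j
  have hc1 : c = 1 := by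
    have h1 : 0 < c := by nlinarith
    have h2 : c < 2 := by nlinarith
    omega
  have hd1 : d = 1 := by
    have h1 : 0 < d := by nlinarith
    have h2 : d < 2 := by nlinarith
    omega
  subst hc1 hd1
  constructor <;> linarith

/-- The sequence `j, v 0, v 1, …`. -/
def cons (j : Fin n) (v : ℕ → Fin n) (p : ℕ) : Fin n := if p = 0 then j else v (p - 1)

theorem Path.cons {k : ℕ} {v : ℕ → Fin n} (h : Path T k v) {j : Fin n} (hj : ∀ p < k, v p ≠ j)
    (ha : T.a j (v 0) ≠ 0) : Path T (k + 1) (NT93.cons j v) := by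
  refine ⟨fun p hp q hq e => ?_, fun p hp => ?_⟩
  · simp only [NT93.cons] at e
    split_ifs at e with h1 h2 h2
    · omega
    · exact absurd e.symm (hj _ (by omega))
    · exact absurd e (hj _ (by omega))
    · have := h.inj _ (by omega) _ (by omega) e; omega
  · simp only [NT93.cons, if_neg (show p + 1 ≠ 0 by omega)]
    split_ifs with h1
    · subst h1; exact ha
    · have := h.adj (p - 1) (by omega)
      rwa [show p - 1 + 1 = p + 1 - 1 by omega] at this

theorem pair_card {i j : Fin n} (hij : i ≠ j) (hi : Two T i) (hj : Two T j) (h : T.a i j ≠ 0)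
    (hb : (2 * T.w i ≤ T.a i j ∧ 2 * T.w j ≤ T.a i j) ∨
      4 * T.w i ≤ T.a i j ∨ 4 * T.w j ≤ T.a i j) : 2 = n :=
  cfgPair (v := fun p => if p = 0 then i else j)
    (fun p hp q hq e => by
      (try dsimp only at e)
      split_ifs at e with h1 h2 h2
      · omega
      · exact absurd e hij
      · exact absurd e.symm hij
      · omega)
    (fun p _ => by split_ifs <;> assumption) (by simpa using hb) (by simpa using h)

theorem edge_cases (hn : n ≠ 2) {i j : Fin n} (hij : i ≠ j) (hi : Two T i) (hj : Two T j)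
    (h : T.a i j ≠ 0) : ∃ c : ℤ, (c = 1 ∨ c = 2 ∨ c = 3) ∧
      ((T.a i j = T.w i ∧ T.a i j = c * T.w j) ∨ (T.a i j = c * T.w i ∧ T.a i j = T.w j)) := by
  obtain ⟨c, hc⟩ := T.w_dvd i j
  obtain ⟨d, hd⟩ := T.w_dvd j i
  rw [aSymm T] at hd
  have hp := pos_of_ne T hij h
  have hwi := T.w_pos i
  have hwj := T.w_pos j
  have c0 : 0 < c := by nlinarith
  have d0 : 0 < d := by nlinarith
  by_cases hc1 : c = 1
  · refine ⟨d, ?_, Or.inl ⟨by rw [hc, hc1, mul_one], by rw [hd]; ring⟩⟩
    by_contra h'
    exact hn (pair_card hij hi hj h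
      (Or.inr (Or.inr (by nlinarith [show 4 ≤ d by omega])))).symm
  · by_cases hd1 : d = 1
    · refine ⟨c, ?_, Or.inr ⟨by rw [hc]; ring, by rw [hd, hd1, mul_one]⟩⟩
      by_contra h'
      exact hn (pair_card hij hi hj h
        (Or.inr (Or.inl (by nlinarith [show 4 ≤ c by omega])))).symm
    · exact absurd (pair_card hij hi hj h (Or.inl
        ⟨by nlinarith [show 2 ≤ c by omega], by nlinarith [show 2 ≤ d by omega]⟩)).symm hn

section

variable {k : ℕ} {v : ℕ → Fin n}

theorem cycle (h : Path T k v) (two : ∀ p < k, Two T (v p)) {i l : ℕ} (hil : i + 2 ≤ l)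
    (hl : l < k) (ha : T.a (v i) (v l) ≠ 0) : l + 1 - i = n ∧ IsType T (eA n) one one := by
  refine cfgA (by omega) (h.seg i (l + 1 - i) (by omega)) (fun p hp => two _ (by omega)) ?_
  simpa [show i + (l + 1 - i - 1) = l by omega] using ha

theorem noChord (h : Path T k v) (two : ∀ p < k, Two T (v p)) (hkn : k < n) {i l : ℕ}
    (hil : i + 2 ≤ l) (hl : l < k) : T.a (v i) (v l) = 0 := by
  by_contra ha
  have := (cycle h two hil hl ha).1; omega

theorem twoMulti (h : Path T k v) (two : ∀ p < k, Two T (v p)) {e f : ℕ} (hef : e < f)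
    (hf : f + 1 < k) (he : Multi T (v e) (v (e + 1))) (hf' : Multi T (v f) (v (f + 1))) :
    f + 2 - e = n ∧ (IsType T (eBC n) (xBC n) (wBC n) ∨ IsType T eC1 one (wC1 n) ∨
      IsType T (eC2 n) (xC2 n) (wC2 n)) := by
  refine cfgC (by omega) (h.seg e (f + 2 - e) (by omega)) (fun p hp => two _ (by omega))
    (by simpa using he) ?_
  simpa [show e + (f + 2 - e - 2) = f by omega, show e + (f + 2 - e - 1) = f + 1 by omega] using hf'

theorem multiInner (h : Path T k v) (two : ∀ p < k, Two T (v p)) {e : ℕ} (h1 : 1 ≤ e)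
    (h2 : e + 2 < k) (hk : 5 ≤ k) (he : Multi T (v e) (v (e + 1))) :
    5 = n ∧ (IsType T eF1 xF1 wF1 ∨ IsType T eF2 xF2 wF2) := by
  by_cases he2 : 2 ≤ e
  · refine cfgF (h.seg (e - 2) 5 (by omega)) (fun p hp => two _ (by omega)) ?_
    simpa [show e - 2 + 2 = e by omega, show e - 2 + 3 = e + 1 by omega] using he
  · obtain rfl : e = 1 := by omega
    exact cfgF ((h.seg 0 5 (by omega)).rev) (fun p hp => two _ (by omega))
      (by simpa using he.symm)

theorem tripleEdge (h : Path T k v) (two : ∀ p < k, Two T (v p)) {e : ℕ}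
    (h1 : e + 1 < k) (hk : 3 ≤ k)
    (he : 3 * T.w (v e) ≤ T.a (v e) (v (e + 1)) ∨ 3 * T.w (v (e + 1)) ≤ T.a (v e) (v (e + 1))) :
    3 = n ∧ (IsType T eG1 xG1 wG1 ∨ IsType T eG2 xG2 wG2) := by
  by_cases he1 : 1 ≤ e
  · refine cfgG (h.seg (e - 1) 3 (by omega)) (fun p hp => two _ (by omega)) ?_
    simpa [show e - 1 + 1 = e by omega, show e - 1 + 2 = e + 1 by omega] using he
  · obtain rfl : e = 0 := by omega
    refine cfgG ((h.seg 0 3 (by omega)).rev) (fun p hp => two _ (by omega)) ?_
    simp only [Nat.zero_add] at *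
    rw [aSymm T]
    exact he.symm

/-- An edge of a path in a type which is neither of the affine shapes with a triple edge. -/
theorem edge_double (h : Path T k v) (two : ∀ p < k, Two T (v p)) (hn : n ≠ 2) (hn3 : 3 ≠ n)
    (hk : 3 ≤ k) {e : ℕ} (h1 : e + 1 < k) :
    (T.a (v e) (v (e + 1)) = T.w (v e) ∧ T.a (v e) (v (e + 1)) = T.w (v (e + 1))) ∨
    (T.a (v e) (v (e + 1)) = T.w (v e) ∧ T.a (v e) (v (e + 1)) = 2 * T.w (v (e + 1))) ∨
    (T.a (v e) (v (e + 1)) = 2 * T.w (v e) ∧ T.a (v e) (v (e + 1)) = T.w (v (e + 1))) := by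
  obtain ⟨c, hc, hh⟩ := edge_cases hn (h.inj.ne (by omega) h1 (by omega)) (two e (by omega))
    (two (e + 1) h1) (h.adj e h1)
  rcases hc with rfl | rfl | rfl
  · simp only [one_mul] at hh; rcases hh with hh | hh <;> exact Or.inl hh
  · rcases hh with hh | hh
    · exact Or.inr (Or.inl hh)
    · exact Or.inr (Or.inr hh)
  · exfalso
    refine hn3 (tripleEdge h two h1 hk ?_).1
    rcases hh with hh | hh
    · exact Or.inr hh.2.ge
    · exact Or.inl hh.1.ge

/-- A branch point and a multiple edge above it. -/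
theorem branchMultiUp (h : Path T k v) (two : ∀ p < k, Two T (v p)) {j : Fin n} (hj2 : Two T j)
    (hj : ∀ p < k, v p ≠ j) {i e : ℕ} (hi : 1 ≤ i) (hie : i ≤ e) (he : e + 1 < k)
    (ha : T.a j (v i) ≠ 0) (hm : Multi T (v e) (v (e + 1))) :
    e + 4 - i = n ∧ (IsType T (eB1 n) (xB1 n) wB1 ∨ IsType T (eB2 n) (xB2 n) wB2) := by
  refine cfgB (v := fun p => if p + 1 = e + 4 - i then j else v (e + 1 - p)) (by omega) ?_ ?_ ?_ ?_
  · intro p hp q hq he'
    (try dsimp only at he')
    split_ifs at he' with h1 h2 h2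
    · omega
    · exact absurd he'.symm (hj _ (by omega))
    · exact absurd he' (hj _ (by omega))
    · have := h.inj _ (by omega) _ (by omega) he'; omega
  · intro p hp
    (try dsimp only)
    split_ifs
    · exact hj2
    · exact two _ (by omega)
  · intro p q hq hpq
    (try dsimp only)
    by_cases h2 : q + 1 = e + 4 - i
    · rw [if_neg (by omega), if_pos h2, show e + 1 - p = i by omega, aSymm T]; exact ha
    · rw [if_neg (by omega), if_neg h2, show e + 1 - p = (e + 1 - q) + 1 by omega, aSymm T]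
      exact h.adj _ (by omega)
  · (try dsimp only)
    rw [if_neg (by omega), if_neg (by omega)]
    simpa using hm.symm

/-- A branch point and a multiple edge anywhere on the path. -/
theorem branchMulti (h : Path T k v) (two : ∀ p < k, Two T (v p)) {j : Fin n} (hj2 : Two T j)
    (hj : ∀ p < k, v p ≠ j) {i e : ℕ} (hi : 1 ≤ i) (hik : i + 1 < k) (he : e + 1 < k)
    (ha : T.a j (v i) ≠ 0) (hm : Multi T (v e) (v (e + 1))) :
    n ≤ k + 1 ∧ 4 ≤ n ∧ (IsType T (eB1 n) (xB1 n) wB1 ∨ IsType T (eB2 n) (xB2 n) wB2) := by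
  by_cases hie : i ≤ e
  · obtain ⟨h1, h2⟩ := branchMultiUp h two hj2 hj hi hie he ha hm
    exact ⟨by omega, by omega, h2⟩
  · obtain ⟨h1, h2⟩ := branchMultiUp (i := k - 1 - i) (e := k - 2 - e) h.rev
      (fun p hp => two _ (by omega)) hj2 (fun p hp => hj _ (by omega)) (by omega) (by omega)
      (by omega) (by simpa [show k - 1 - (k - 1 - i) = i by omega] using ha)
      (by simpa [show k - 1 - (k - 2 - e) = e + 1 by omega,
            show k - 1 - (k - 2 - e + 1) = e by omega] using hm.symm)
    exact ⟨by omega, by omega, h2⟩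

/-- A branch point with a multiple edge leaving the path. -/
theorem branchMultiOut (h : Path T k v) (two : ∀ p < k, Two T (v p)) {j : Fin n} (hj2 : Two T j)
    (hj : ∀ p < k, v p ≠ j) {i : ℕ} (hi : 1 ≤ i) (hik : i + 1 < k)
    (ha : T.a j (v i) ≠ 0) (hm : Multi T j (v i)) :
    4 = n ∧ (IsType T (eB1 n) (xB1 n) wB1 ∨ IsType T (eB2 n) (xB2 n) wB2) := by
  refine cfgB (v := fun p => if p = 0 then j else if p = 1 then v i else if p = 2 then v (i - 1)
    else v (i + 1)) le_rfl ?_ ?_ ?_ ?_
  · intro p hp q hq e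
    (try dsimp only at e)
    split_ifs at e <;>
      first
      | omega
      | exact absurd e (hj _ (by omega))
      | exact absurd e.symm (hj _ (by omega))
      | (have := h.inj _ (by omega) _ (by omega) e; omega)
  · intro p hp
    (try dsimp only)
    split_ifs <;> first | exact hj2 | exact two _ (by omega)
  · intro p q hq hpq
    have : (p = 0 ∧ q = 1) ∨ (p = 1 ∧ q = 2) ∨ (p = 1 ∧ q = 3) := by omega
    rcases this with ⟨rfl, rfl⟩ | ⟨rfl, rfl⟩ | ⟨rfl, rfl⟩
    · simpa using ha
    · have := h.adj (i - 1) (by omega)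
      rw [show i - 1 + 1 = i by omega] at this
      rw [aSymm T]; simpa using this
    · simpa using h.adj i hik
  · simpa using hm

/-- Two branches on a path. -/
theorem twoBranch (h : Path T k v) (two : ∀ p < k, Two T (v p)) {j j' : Fin n} (hj2 : Two T j)
    (hj2' : Two T j') (hjj : j ≠ j') (hj : ∀ p < k, v p ≠ j) (hj' : ∀ p < k, v p ≠ j') {i i' : ℕ}
    (hi : 1 ≤ i) (hii : i ≤ i') (hik : i' + 1 < k) (ha : T.a j (v i) ≠ 0)
    (ha' : T.a j' (v i') ≠ 0) :
    i' - i + 5 = n ∧ IsType T (eD n) (xD n) one := by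
  refine cfgD (v := fun p => if p = 0 then v (i - 1) else if p = 1 then j else
    if p + 1 = i' - i + 5 then j' else v (i + p - 2)) (by omega) ?_ ?_ ?_
  · intro p hp q hq e
    (try dsimp only at e)
    split_ifs at e <;>
      first
      | omega
      | exact absurd e (hj _ (by omega))
      | exact absurd e.symm (hj _ (by omega))
      | exact absurd e (hj' _ (by omega))
      | exact absurd e.symm (hj' _ (by omega))
      | exact absurd e hjj
      | exact absurd e.symm hjj
      | (have := h.inj _ (by omega) _ (by omega) e; omega)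
  · intro p hp
    (try dsimp only)
    split_ifs <;> first | exact hj2 | exact hj2' | exact two _ (by omega)
  · intro p q hq hpq
    (try dsimp only)
    rcases hpq with ⟨rfl, rfl⟩ | ⟨rfl, rfl⟩ | ⟨rfl, h2, h3⟩ | ⟨h2, h3⟩
    · rw [if_pos rfl, if_neg (by omega), if_neg (by omega), if_neg (by omega),
        show i + 2 - 2 = i by omega]
      have := h.adj (i - 1) (by omega)
      rwa [show i - 1 + 1 = i by omega] at this
    · rw [if_neg (by omega), if_pos rfl, if_neg (by omega), if_neg (by omega), if_neg (by omega),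
        show i + 2 - 2 = i by omega]
      exact ha
    · rw [if_neg (by omega), if_neg (by omega), if_neg (by omega), if_neg (by omega),
        if_neg (by omega), if_neg (by omega), show i + (p + 1) - 2 = (i + p - 2) + 1 by omega]
      exact h.adj _ (by omega)
    · rw [if_neg (by omega), if_neg (by omega), if_neg (by omega), if_neg (by omega),
        if_neg (by omega), if_pos (by omega), show i + p - 2 = i' by omega, aSymm T]
      exact ha'

end

end Groth.Agent.NT93
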